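import Mathlib
import Groth.Agent.FlatCxBase.FlatAlg

/-!
# Bijectivity of `B → M` near a fibre of `Spec B → Spec A`
-/

universe u

open TensorProduct

namespace Groth.Contraction

variable {A B : Type u} [CommRing A] [CommRing B] [Algebra A B]
  (p : Ideal A) [p.IsPrime] (q : Ideal B) [q.IsPrime] (hpq : q.comap (algebraMap A B) = p)

include hpq in
/-- A finite module whose fibre over `p` is killed by an element outside `q` is killed by one. -/
theorem exists_notMem_smul_eq_zero {Q : Type u} [AddCommGroup Q] [Module A Q] [Module B Q]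
    [IsScalarTower A B Q] [Module.Finite B Q] {h₀ : B} (hh₀ : h₀ ∉ q)
    (h0 : ∀ m : Q, (h₀ • m) ⊗ₜ[A] (1 : p.ResidueField) = 0) :
    ∃ h ∉ q, ∀ m : Q, h • m = 0 := by
  classical
  let κ := q.ResidueField
  let ι : p.ResidueField →+* κ := Ideal.ResidueField.map p q (algebraMap A B) hpq.symm
  have hι : ∀ a, ι (algebraMap A p.ResidueField a) = algebraMap B κ (algebraMap A B a) := fun a =>
    Ideal.ResidueField.map_algebraMap _ _ _ _ _
  let Ψ : Q ⊗[A] p.ResidueField →+ κ ⊗[B] Q := TensorProduct.liftAddHom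
    (AddMonoidHom.mk' (fun m => AddMonoidHom.mk' (fun c => ι c ⊗ₜ[B] m)
        fun c c' => by rw [map_add, TensorProduct.add_tmul])
      fun m m' => AddMonoidHom.ext fun c => TensorProduct.tmul_add _ _ _)
    fun a m c => by
      change ι c ⊗ₜ[B] (a • m) = ι (a • c) ⊗ₜ[B] m
      rw [← IsScalarTower.algebraMap_smul B a m, ← TensorProduct.smul_tmul,
        Algebra.smul_def a c, map_mul, hι, Algebra.smul_def]
  have hz : ∀ w : κ ⊗[B] Q, w = 0 := by
    intro w
    induction w using TensorProduct.induction_on with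
    | zero => rfl
    | tmul c m =>
      have h1 : (1 : κ) ⊗ₜ[B] m = 0 := by
        have h2 : algebraMap B κ h₀ • ((1 : κ) ⊗ₜ[B] m) = 0 := by
          have := congrArg Ψ (h0 m)
          rw [map_zero] at this
          refine Eq.trans ?_ this
          change _ = ι 1 ⊗ₜ[B] (h₀ • m)
          rw [map_one, algebraMap_smul, TensorProduct.tmul_smul]
        exact (smul_eq_zero_iff_right (mt Ideal.algebraMap_residueField_eq_zero.1 hh₀)).1 h2
      have := congrArg (fun w => c • w) h1
      rwa [smul_zero, TensorProduct.smul_tmul', smul_eq_mul, mul_one] at this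
    | add a b ha hb => rw [ha, hb, add_zero]
  have hns : (⟨q, ‹_›⟩ : PrimeSpectrum B) ∉ Module.support B Q := fun hs => by
    have := (Module.mem_support_iff_nontrivial_residueField_tensorProduct _).1 hs
    exact not_subsingleton (κ ⊗[B] Q) (subsingleton_of_forall_eq 0 hz)
  rw [Module.notMem_support_iff'] at hns
  choose r hr hrm using hns
  obtain ⟨S, hS⟩ := (Module.Finite.fg_top : (⊤ : Submodule B Q).FG)
  refine ⟨∏ m ∈ S, r m, ?_, fun m => ?_⟩
  · rw [Ideal.IsPrime.prod_mem_iff]
    rintro ⟨m, -, hm⟩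
    exact hr m hm
  · refine Submodule.span_induction (p := fun m _ => (∏ m ∈ S, r m) • m = 0) (fun x hx => ?_)
      (smul_zero _) (fun x y _ _ hx hy => by rw [smul_add, hx, hy, add_zero])
      (fun b x _ hx => by rw [smul_comm, hx, smul_zero]) (hS.ge trivial : m ∈ _)
    rw [← Finset.prod_erase_mul S r hx, mul_smul, hrm, smul_zero]

variable {M : Type u} [AddCommGroup M] [Module A M] [Module B M] [IsScalarTower A B M]
  (φ : B →ₗ[B] M)

include hpq in
/-- Surjectivity spreads from the fibre. -/
theorem exists_notMem_smul_mem_range [Module.Finite B M]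
    (hs : Function.Surjective ((φ.restrictScalars A).rTensor p.ResidueField)) :
    ∃ h ∉ q, ∀ m : M, h • m ∈ LinearMap.range φ := by
  let π := (LinearMap.range φ).mkQ.restrictScalars A
  obtain ⟨h, hh, hkill⟩ := exists_notMem_smul_eq_zero p q hpq (Q := M ⧸ LinearMap.range φ)
    (h₀ := 1) (fun h1 => q.one_notMem h1) fun m => by
      rw [one_smul]
      obtain ⟨y, hy⟩ := LinearMap.rTensor_surjective (g := π) p.ResidueField
        (Submodule.mkQ_surjective _) (m ⊗ₜ[A] (1 : p.ResidueField))
      obtain ⟨z, rfl⟩ := hs y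
      rw [← hy, ← LinearMap.rTensor_comp_apply, show π.comp (φ.restrictScalars A) = 0 from
        LinearMap.ext fun b => (Submodule.Quotient.mk_eq_zero _).2 (LinearMap.mem_range_self φ b),
        LinearMap.rTensor_zero, LinearMap.zero_apply]
  exact ⟨h, hh, fun m => (Submodule.Quotient.mk_eq_zero _).1
    ((Submodule.Quotient.mk_smul _ h m).trans (hkill (Submodule.Quotient.mk m)))⟩

include hpq in
/-- Bijectivity spreads from the fibre, for a finite module flat over the base. -/
theorem exists_notMem_bijective [IsNoetherianRing B] [Module.Finite B M] [Module.Flat A M]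
    (hφ : Function.Bijective ((φ.restrictScalars A).rTensor p.ResidueField)) :
    ∃ h ∉ q, (∀ m : M, h • m ∈ LinearMap.range φ) ∧ ∀ b : B, φ b = 0 → h * b = 0 := by
  obtain ⟨h₀, hh₀, hrange⟩ := exists_notMem_smul_mem_range p q hpq φ hφ.2
  choose c hc using hrange
  let E : Submodule B (B × M) :=
    LinearMap.ker (φ.comp (LinearMap.fst B B M) - h₀ • LinearMap.snd B B M)
  have hE : ∀ x : B × M, x ∈ E ↔ φ x.1 = h₀ • x.2 := fun x => sub_eq_zero
  let pr : E →ₗ[A] M := ((LinearMap.snd B B M).comp E.subtype).restrictScalars A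
  let inc : LinearMap.ker φ →ₗ[A] E := LinearMap.restrictScalars A
    (((LinearMap.inl B B M).comp (LinearMap.ker φ).subtype).codRestrict E fun x => (hE _).2 <| by
      change φ x.1 = h₀ • (0 : M)
      rw [smul_zero]
      exact x.2)
  let e : B →ₗ[A] E := LinearMap.restrictScalars A
    ((LinearMap.prod (h₀ • LinearMap.id) φ).codRestrict E fun b => (hE _).2 (by
      simpa using map_smul φ h₀ b))
  have hpr : Function.Surjective pr := fun m => ⟨⟨(c m, m), (hE _).2 (hc m)⟩, rfl⟩
  have hinc : Function.Injective inc := fun a b hab =>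
    Subtype.ext (congrArg Prod.fst (congrArg Subtype.val hab))
  have hex : Function.Exact inc pr := fun x => by
    refine ⟨fun hx => ?_, ?_⟩
    · have hx0 : x.1.2 = 0 := hx
      refine ⟨⟨x.1.1, LinearMap.mem_ker.2 (by rw [(hE _).1 x.2, hx0, smul_zero])⟩, ?_⟩
      exact Subtype.ext (Prod.ext rfl hx0.symm)
    · rintro ⟨a, rfl⟩
      rfl
  have := Groth.FlatCxBase.rTensor_injective_of_flat (f := inc) (g := pr) hinc hpr hex p.ResidueField
  obtain ⟨h, hh, hkill⟩ := exists_notMem_smul_eq_zero p q hpq (Q := LinearMap.ker φ) hh₀ fun k => by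
    refine this ?_
    have h1 : (k : B) ⊗ₜ[A] (1 : p.ResidueField) = 0 := hφ.1 (by
      rw [LinearMap.rTensor_tmul, map_zero]
      exact (congrArg (· ⊗ₜ[A] (1 : p.ResidueField)) (LinearMap.mem_ker.1 k.2)).trans
        (TensorProduct.zero_tmul _ _))
    have h2 : inc (h₀ • k) = e k := Subtype.ext (Prod.ext rfl (LinearMap.mem_ker.1 k.2).symm)
    rw [map_zero, LinearMap.rTensor_tmul, h2, ← LinearMap.rTensor_tmul, h1, map_zero]
  refine ⟨h₀ * h, fun hmem => ((‹q.IsPrime›).mem_or_mem hmem).elim hh₀ hh, fun m => ?_,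
    fun b hb => ?_⟩
  · rw [mul_comm, mul_smul]
    exact Submodule.smul_mem _ h ⟨c m, hc m⟩
  · rw [mul_assoc]
    have : h * b = 0 := congrArg Subtype.val (hkill ⟨b, hb⟩)
    rw [this, mul_zero]

end Groth.Contraction
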