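import Groth.Agent.Limits.DegreeZero
import Groth.Agent.FibreDim.BaseChange
import Groth.Agent.CohBase.FlatCohBaseChange
import Groth.Agent.FBaseGeom.AssTensor

/-!
# Points over which a proper morphism has no `R¹` (fibres of dimension `≤ 1`)
-/

universe u

open CategoryTheory Limits AlgebraicGeometry TopologicalSpace Opposite

set_option backward.isDefEq.respectTransparency.types false

namespace Groth.Contraction

open Groth.CohBase Groth.Limits.FibreVanishing

variable {X Y : Scheme.{u}} (f : X ⟶ Y)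

/-- The fibre has dimension `≤ 1` and no first cohomology of the structure sheaf. -/
def Good (y : Y) : Prop :=
  topologicalKrullDim ↥(f.fiber y) ≤ (1 : ℕ) ∧
    Subsingleton (Coh.HH (f.fiber y) (Coh.structureModule (f.fiber y)) 1)

variable [IsProper f]

theorem dim_fiber_preimage {V : Y.Opens} (hV : IsAffineOpen V)
    (hd : ∀ y ∈ V, topologicalKrullDim ↥(f.fiber y) ≤ (1 : ℕ)) :
    letI : ((f ⁻¹ᵁ V : X.Opens) : Scheme.{u}).Over (Spec (CommRingCat.of Γ(Y, V))) :=
      ⟨preimageToSpec f⟩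
    ∀ P, topologicalKrullDim
      ↥(((f ⁻¹ᵁ V : X.Opens).toScheme ↘ Spec (CommRingCat.of Γ(Y, V))).fiber P) ≤ (1 : ℕ) := by
  letI : ((f ⁻¹ᵁ V : X.Opens) : Scheme.{u}).Over (Spec (CommRingCat.of Γ(Y, V))) :=
    ⟨preimageToSpec f⟩
  intro P
  have hP : hV.fromSpec.base P ∈ V := hV.range_fromSpec.le ⟨P, rfl⟩
  have e : hV.primeIdealOf ⟨_, hP⟩ = P := hV.fromSpec.isEmbedding.injective
    (hV.fromSpec_primeIdealOf ⟨_, hP⟩)
  have h := dim_fiber_preimageToSpec_le f hV _ hP 1 (hd _ hP)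
  rwa [e] at h

/-- If `H¹` over an affine open is killed by a function invertible at `y`, that of the fibre at `y`
vanishes. -/
theorem fibre_h1_of_killed {V : Y.Opens} (hV : IsAffineOpen V)
    (hd : ∀ y ∈ V, topologicalKrullDim ↥(f.fiber y) ≤ (1 : ℕ)) {y : Y} (hy : y ∈ V)
    {t : Γ(Y, V)} (hyt : y ∈ Y.basicOpen t)
    (ht : letI : ((f ⁻¹ᵁ V : X.Opens) : Scheme.{u}).Over (Spec (CommRingCat.of Γ(Y, V))) :=
      ⟨preimageToSpec f⟩
      ∀ h : Coh.HH (f ⁻¹ᵁ V : X.Opens) (Coh.structureModule (f ⁻¹ᵁ V : X.Opens).toScheme) 1, t • h = 0) :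
    Subsingleton (Coh.HH (f.fiber y) (Coh.structureModule (f.fiber y)) 1) := by
  letI : ((f ⁻¹ᵁ V : X.Opens) : Scheme.{u}).Over (Spec (CommRingCat.of Γ(Y, V))) :=
    ⟨preimageToSpec f⟩
  haveI : IsProper ((f ⁻¹ᵁ V : X.Opens).toScheme ↘ Spec (CommRingCat.of Γ(Y, V))) :=
    MorphismProperty.of_isPullback (isPullback_preimageToSpec f hV) ‹IsProper f›
  letI : Algebra Γ(Y, V) (Y.residueField y) := (Y.evaluation V y hy).hom.toAlgebra
  letI : (f.fiber y).Over (Spec (CommRingCat.of (Y.residueField y))) := ⟨f.fiberToSpecResidueField y⟩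
  haveI : (Coh.structureModule (f ⁻¹ᵁ V : X.Opens).toScheme).IsQuasicoherent := inferInstance
  have hfib := subsingleton_HH_of_killed 1 (dim_fiber_preimage f hV hd)
    (Coh.structureModule (f ⁻¹ᵁ V : X.Opens).toScheme)
    (show IsBC (A := Γ(Y, V)) (A' := Y.residueField y) (fibreToPreimage f y hy) from
      isPullback_fibreToPreimage f hV y hy)
    fun x => ⟨t, ((Y.evaluation_ne_zero_iff_mem_basicOpen y hy t).2 hyt).isUnit, ht x⟩
  obtain ⟨e₁⟩ := PicAux.pullback_structure_iso (fibreToPreimage f y hy)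
  haveI := hfib
  exact (CohC3.hmap_bijective_of_isIso (A := Y.residueField y) e₁.hom 1).2.subsingleton

/-- The good points form an open set. -/
theorem isOpen_good : IsOpen {y : Y | Good f y} := by
  classical
  rw [isOpen_iff_forall_mem_open]
  intro y hy
  obtain ⟨V, hV, hyV, hVd⟩ := exists_isAffineOpen_mem_and_subset
    (U := (⟨_, FibreDim.isOpen_dim_fiber_le f f.isClosedMap ((1 : ℕ) : WithBot ℕ∞)⟩ : Y.Opens))
    (x := y) hy.1
  letI : ((f ⁻¹ᵁ V : X.Opens) : Scheme.{u}).Over (Spec (CommRingCat.of Γ(Y, V))) :=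
    ⟨preimageToSpec f⟩
  haveI : IsProper ((f ⁻¹ᵁ V : X.Opens).toScheme ↘ Spec (CommRingCat.of Γ(Y, V))) :=
    MorphismProperty.of_isPullback (isPullback_preimageToSpec f hV) ‹IsProper f›
  have hO : Coh.IsCoh (Coh.structureModule (f ⁻¹ᵁ V : X.Opens).toScheme) :=
    (QCohMod.isCoh_iff _).mpr ⟨inferInstance, fun W _ => inferInstanceAs
      (Module.Finite Γ((f ⁻¹ᵁ V : X.Opens).toScheme, W) Γ((f ⁻¹ᵁ V : X.Opens).toScheme, W))⟩
  obtain ⟨S, hS⟩ := (finite_HH_top (A := Γ(Y, V)) 1 (dim_fiber_preimage f hV hVd) _ hO).fg_top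
  choose s hys hs using exists_smul_eq_zero_of_fiber_H f hV 1 hVd y hyV hy.2
  letI hdec : DecidableEq (Coh.HH (f ⁻¹ᵁ V : X.Opens)
      (Coh.structureModule (f ⁻¹ᵁ V : X.Opens)) 1) := Classical.decEq _
  let t : Γ(Y, V) := ∏ x ∈ S, s x
  have hyt : y ∈ Y.basicOpen t := by
    have key : ∀ T : Finset (Coh.HH (f ⁻¹ᵁ V : X.Opens)
        (Coh.structureModule (f ⁻¹ᵁ V : X.Opens)) 1), y ∈ Y.basicOpen (∏ x ∈ T, s x) := by
      intro T
      induction T using Finset.induction_on with
      | empty => simpa using hyV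
      | insert a T ha ih => rw [Finset.prod_insert ha, Scheme.basicOpen_mul]; exact ⟨hys a, ih⟩
    exact key S
  have ht : ∀ h : Coh.HH (f ⁻¹ᵁ V : X.Opens) (Coh.structureModule (f ⁻¹ᵁ V : X.Opens)) 1,
      t • h = 0 := fun h => by
    refine Submodule.span_induction (p := fun h _ => t • h = 0) (fun x hx => ?_) (smul_zero _)
      (fun a b _ _ ha hb => by rw [smul_add, ha, hb, add_zero])
      (fun a b _ hb => by rw [smul_comm, hb, smul_zero]) (hS.ge trivial : h ∈ _)
    change (∏ x ∈ S, s x) • x = 0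
    rw [← Finset.prod_erase_mul S s (Finset.mem_coe.1 hx), mul_smul, hs, smul_zero]
  exact ⟨Y.basicOpen t, fun z hz => ⟨hVd (Y.basicOpen_le t hz),
    fibre_h1_of_killed f hV hVd (Y.basicOpen_le t hz) hz ht⟩, (Y.basicOpen t).2, hyt⟩

/-- Over an affine open of good points the preimage has no higher cohomology. -/
theorem subsingleton_HH_preimage {V : Y.Opens} (hV : IsAffineOpen V) (hg : ∀ y ∈ V, Good f y)
    (p : ℕ) (hp : 1 ≤ p) :
    Subsingleton (Coh.HH (f ⁻¹ᵁ V : X.Opens) (Coh.structureModule (f ⁻¹ᵁ V : X.Opens).toScheme) p) := by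
  rcases eq_or_lt_of_le hp with rfl | h2
  · exact subsingleton_HH_of_fiber_H f hV 1 (fun y hy => (hg y hy).1) fun y hy => (hg y hy).2
  · letI : ((f ⁻¹ᵁ V : X.Opens) : Scheme.{u}).Over (Spec (CommRingCat.of Γ(Y, V))) :=
      ⟨preimageToSpec f⟩
    haveI : IsProper ((f ⁻¹ᵁ V : X.Opens).toScheme ↘ Spec (CommRingCat.of Γ(Y, V))) :=
      MorphismProperty.of_isPullback (isPullback_preimageToSpec f hV) ‹IsProper f›
    exact subsingleton_HH_of_dim_fiber_le (A := Γ(Y, V)) 1
      (dim_fiber_preimage f hV fun y hy => (hg y hy).1) _ p h2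

/-- `R¹` vanishes over an affine open of good points. -/
theorem subsingleton_HHon_preimage {V : Y.Opens} (hV : IsAffineOpen V) (hg : ∀ y ∈ V, Good f y) :
    Subsingleton (Coh.HHon X (Coh.structureModule X) (f ⁻¹ᵁ V) 1) := by
  letI : ((f ⁻¹ᵁ V : X.Opens) : Scheme.{u}).Over (Spec (CommRingCat.of Γ(Y, V))) :=
    ⟨preimageToSpec f⟩
  haveI := subsingleton_HH_preimage f hV hg 1 le_rfl
  obtain ⟨e⟩ := PicAux.pullback_structure_iso (f ⁻¹ᵁ V).ι
  let ee := ((Scheme.Modules.restrictFunctorIsoPullback (f ⁻¹ᵁ V).ι).app (Coh.structureModule X)) ≪≫ e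
  exact (CohC3.hmap_bijective_of_isIso (A := Γ(Y, V)) ee.hom 1).1.subsingleton

/-- Vanishing of `R¹` over the affine opens, with fibres of dimension `≤ 1`, makes all points good. -/
theorem good_of_hhon (hd : ∀ y : Y, topologicalKrullDim ↥(f.fiber y) ≤ (1 : ℕ))
    (hR : ∀ V : Y.Opens, IsAffineOpen V → Subsingleton (Coh.HHon X (Coh.structureModule X) (f ⁻¹ᵁ V) 1))
    (y : Y) : Good f y := by
  obtain ⟨V, hV, hyV, -⟩ :=
    exists_isAffineOpen_mem_and_subset (U := (⊤ : Y.Opens)) (x := y) trivial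
  refine ⟨hd y, fibre_h1_of_killed f hV (fun z _ => hd z) hyV (t := 1)
    (by rw [Y.basicOpen_of_isUnit isUnit_one]; exact hyV) fun h => ?_⟩
  letI : ((f ⁻¹ᵁ V : X.Opens) : Scheme.{u}).Over (Spec (CommRingCat.of Γ(Y, V))) :=
    ⟨preimageToSpec f⟩
  haveI := hR V hV
  obtain ⟨e⟩ := PicAux.pullback_structure_iso (f ⁻¹ᵁ V).ι
  let ee := ((Scheme.Modules.restrictFunctorIsoPullback (f ⁻¹ᵁ V).ι).app (Coh.structureModule X)) ≪≫ e
  haveI : Subsingleton (Coh.HH (f ⁻¹ᵁ V : X.Opens) (Coh.structureModule (f ⁻¹ᵁ V : X.Opens).toScheme) 1) :=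
    (CohC3.hmap_bijective_of_isIso (A := Γ(Y, V)) ee.hom 1).2.subsingleton
  exact Subsingleton.elim _ _

/-- Goodness is invariant under base change. -/
theorem good_baseChange_iff {X' Y' : Scheme.{u}} {g : Y' ⟶ Y} {gX : X' ⟶ X} {q : X' ⟶ Y'}
    (hsq₀ : IsPullback gX q f g) (y' : Y') : Good q y' ↔ Good f (g y') := by
  haveI : IsProper q := MorphismProperty.of_isPullback hsq₀ ‹IsProper f›
  refine and_congr (by rw [FibreDim.dim_fiber_baseChange f g q gX hsq₀ y']) ?_
  letI : (q.fiber y').Over (Spec (CommRingCat.of (Y'.residueField y'))) :=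
    ⟨q.fiberToSpecResidueField y'⟩
  letI : (f.fiber (g y')).Over (Spec (CommRingCat.of (Y.residueField (g y')))) :=
    ⟨f.fiberToSpecResidueField (g y')⟩
  letI : Algebra (Y.residueField (g y')) (Y'.residueField y') :=
    (g.residueFieldMap y').hom.toAlgebra
  haveI : IsProper (f.fiber (g y') ↘ Spec (CommRingCat.of (Y.residueField (g y')))) :=
    MorphismProperty.of_isPullback (IsPullback.of_hasPullback f (Y.fromSpecResidueField (g y')))
      ‹IsProper f›
  haveI : (f.fiber (g y')).IsSeparated := CohFin.isSeparated_of_proper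
    (f.fiber (g y') ↘ Spec (CommRingCat.of (Y.residueField (g y'))))
  haveI : CompactSpace (f.fiber (g y')) := CohFin.compactSpace_of_proper
    (f.fiber (g y') ↘ Spec (CommRingCat.of (Y.residueField (g y'))))
  have hcond : (q.fiberι y' ≫ gX) ≫ f =
      (q.fiberToSpecResidueField y' ≫ Spec.map (g.residueFieldMap y')) ≫
        Y.fromSpecResidueField (g y') := by
    rw [Category.assoc, Category.assoc, g.SpecMap_residueFieldMap_fromSpecResidueField y',
      hsq₀.w, ← Category.assoc, ← Category.assoc]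
    exact congrArg (· ≫ g) pullback.condition
  let c : q.fiber y' ⟶ f.fiber (g y') := pullback.lift (q.fiberι y' ≫ gX)
    (q.fiberToSpecResidueField y' ≫ Spec.map (g.residueFieldMap y')) hcond
  have hsq : IsBC (A := Y.residueField (g y')) (A' := Y'.residueField y') c := by
    have hfst : c ≫ f.fiberι (g y') = q.fiberι y' ≫ gX := pullback.lift_fst _ _ _
    have hbig : IsPullback (c ≫ f.fiberι (g y')) (q.fiberToSpecResidueField y') f
        (Spec.map (g.residueFieldMap y') ≫ Y.fromSpecResidueField (g y')) := by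
      rw [hfst, g.SpecMap_residueFieldMap_fromSpecResidueField y']
      exact (IsPullback.of_hasPullback q (Y'.fromSpecResidueField y')).paste_horiz hsq₀
    exact hbig.of_right (pullback.lift_snd _ _ _)
      (IsPullback.of_hasPullback f (Y.fromSpecResidueField (g y')))
  obtain ⟨e₂⟩ := PicAux.pullback_structure_iso c
  haveI : (Coh.structureModule (f.fiber (g y'))).IsQuasicoherent := inferInstance
  constructor
  · intro h
    exact subsingleton_HH_of_field_ext _ 1 hsq
      (CohC3.hmap_bijective_of_isIso (A := Y'.residueField y') e₂.hom 1).1.subsingleton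
  · intro h
    haveI : Flat (f.fiber (g y') ↘ Spec (CommRingCat.of (Y.residueField (g y')))) := inferInstance
    obtain ⟨ε⟩ := nonempty_HH_bc_of_flat hsq (Coh.structureModule (f.fiber (g y')))
      (FBaseGeom.isFlatOver_structureModule _) (fun p => inferInstance) 1
    haveI : Subsingleton (Coh.HH (q.fiber y')
        ((Scheme.Modules.pullback c).obj (Coh.structureModule (f.fiber (g y')))) 1) :=
      ε.toEquiv.subsingleton
    exact (CohC3.hmap_bijective_of_isIso (A := Y'.residueField y') e₂.hom 1).2.subsingleton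

end Groth.Contraction
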