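import Groth.Agent.Contraction.Piece
import Groth.Agent.Contraction.Good
import Groth.Agent.AlgGrp1.PushIso
import Groth.Agent.FBaseGeom.AssTensor

/-!
# Charts for `O_Y → f_* O_X` after a change of base
-/

universe u

open CategoryTheory Limits AlgebraicGeometry TopologicalSpace Opposite
open scoped TensorProduct

set_option backward.isDefEq.respectTransparency.types false

namespace Groth.Contraction

open Groth.CohBase

/-- The part of a base change lying over an open and over an open of the new base is a base change. -/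
theorem isPullback_opens {S S' Y Y' P Q : Scheme.{u}} {g : Y ⟶ S} {g' : Y' ⟶ S'} {b : S' ⟶ S}
    {π : Y' ⟶ Y} (hY : IsPullback π g' g b) (ρ : P ⟶ S) [Mono ρ] (τ : Q ⟶ S') [IsOpenImmersion τ]
    (φ : Q ⟶ P) (hτ : τ ≫ b = φ ≫ ρ) (W : Y.Opens) (j : (W : Scheme.{u}) ⟶ P) (hj : j ≫ ρ = W.ι ≫ g)
    (W' : Y'.Opens) (hW' : ∀ z : Y', z ∈ W' ↔ π z ∈ W ∧ g' z ∈ Set.range τ)
    (gY : (W' : Scheme.{u}) ⟶ (W : Scheme.{u})) (hgY : gY ≫ W.ι = W'.ι ≫ π)
    (gA : (W' : Scheme.{u}) ⟶ Q) (hgA : gA ≫ τ = W'.ι ≫ g') : IsPullback gY gA j φ := by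
  have hw : gY ≫ j = gA ≫ φ := by
    rw [← cancel_mono ρ, Category.assoc, hj, reassoc_of% hgY, hY.w, Category.assoc, ← hτ,
      reassoc_of% hgA]
  refine ⟨⟨hw⟩, ⟨PullbackCone.isLimitAux' _ fun s => ?_⟩⟩
  have hs : (s.fst ≫ W.ι) ≫ g = (s.snd ≫ τ) ≫ b := by
    rw [Category.assoc, ← hj, reassoc_of% s.condition, Category.assoc, hτ]
  let l := hY.lift (s.fst ≫ W.ι) (s.snd ≫ τ) hs
  have hl₁ : l ≫ π = s.fst ≫ W.ι := hY.lift_fst _ _ hs
  have hl₂ : l ≫ g' = s.snd ≫ τ := hY.lift_snd _ _ hs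
  have hr : Set.range l ⊆ Set.range W'.ι := by
    rintro _ ⟨z, rfl⟩
    rw [Scheme.Opens.range_ι]
    refine (hW' (l z)).2 ⟨?_, ⟨s.snd z, ?_⟩⟩
    · rw [← Scheme.Hom.comp_apply, hl₁, Scheme.Hom.comp_apply]
      exact (s.fst z).2
    · rw [← Scheme.Hom.comp_apply, ← Scheme.Hom.comp_apply, hl₂]
  haveI : IsOpenImmersion W'.ι := Scheme.Opens.instIsOpenImmersionι W'
  let l' : _ ⟶ (W' : Scheme.{u}) := IsOpenImmersion.lift W'.ι l hr
  refine ⟨l', ?_, ?_, fun {m} h₁ h₂ => ?_⟩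
  · rw [← cancel_mono W.ι]
    change (_ ≫ gY) ≫ W.ι = _
    rw [Category.assoc, hgY, IsOpenImmersion.lift_fac_assoc, hl₁]
  · rw [← cancel_mono τ]
    change (_ ≫ gA) ≫ τ = _
    rw [Category.assoc, hgA, IsOpenImmersion.lift_fac_assoc, hl₂]
  · let m' : s.pt ⟶ (W' : Scheme.{u}) := m
    have h₁' : m' ≫ gY = s.fst := h₁
    have h₂' : m' ≫ gA = s.snd := h₂
    change m' = l'
    rw [← cancel_mono W'.ι, IsOpenImmersion.lift_fac]
    refine hY.hom_ext ?_ ?_
    · rw [hl₁, Category.assoc, ← hgY, reassoc_of% h₁']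
    · rw [hl₂, Category.assoc, ← hgA, reassoc_of% h₂']

/-- Bijectivity of the sections map over an open is that of the restricted morphism. -/
theorem app_bijective_iff_restrict {X Y : Scheme.{u}} (f : X ⟶ Y) (W : Y.Opens) :
    Function.Bijective (f.app W) ↔ Function.Bijective (f ∣_ W).appTop := by
  have key : ∀ (V V' : Y.Opens), V = V' →
      (Function.Bijective (f.app V) ↔ Function.Bijective (f.app V')) := fun V V' h => by subst h; rfl
  rw [key W (W.ι ''ᵁ ⊤) W.ι_image_top.symm, Scheme.Hom.appTop, morphismRestrict_app]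
  exact (Function.Bijective.of_comp_iff' (ConcreteCategory.bijective_of_isIso
    (X.presheaf.map (eqToHom (image_morphismRestrict_preimage f W ⊤)).op)) _).symm

/-- Surjectivity of the sections map over an open is that of the restricted morphism. -/
theorem app_surjective_iff_restrict {X Y : Scheme.{u}} (f : X ⟶ Y) (W : Y.Opens) :
    Function.Surjective (f.app W) ↔ Function.Surjective (f ∣_ W).appTop := by
  have key : ∀ (V V' : Y.Opens), V = V' →
      (Function.Surjective (f.app V) ↔ Function.Surjective (f.app V')) := fun V V' h => by subst h; rfl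
  rw [key W (W.ι ''ᵁ ⊤) W.ι_image_top.symm, Scheme.Hom.appTop, morphismRestrict_app]
  have hb := ConcreteCategory.bijective_of_isIso
    (X.presheaf.map (eqToHom (image_morphismRestrict_preimage f W ⊤)).op)
  refine ⟨fun h => hb.surjective.comp h, fun h x => ?_⟩
  obtain ⟨a, ha⟩ := h (X.presheaf.map (eqToHom (image_morphismRestrict_preimage f W ⊤)).op x)
  exact ⟨a, hb.injective ha⟩

/-- Finiteness of the sections map over an open is that of the restricted morphism. -/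
theorem finite_app_iff_restrict {X Y : Scheme.{u}} (f : X ⟶ Y) (W : Y.Opens) :
    (f.app W).hom.Finite ↔ (f ∣_ W).appTop.hom.Finite := by
  have key : ∀ (V V' : Y.Opens), V = V' →
      ((f.app V).hom.Finite ↔ (f.app V').hom.Finite) := fun V V' h => by subst h; rfl
  rw [key W (W.ι ''ᵁ ⊤) W.ι_image_top.symm, Scheme.Hom.appTop, morphismRestrict_app]
  exact (RingHom.finite_respectsIso.cancel_right_isIso (f.app (W.ι ''ᵁ ⊤))
    (X.presheaf.map (eqToHom (image_morphismRestrict_preimage f W ⊤)).op)).symm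

section Chart

variable {A A' : Type u} [CommRing A] [CommRing A'] [Algebra A A'] {S S' X Y X' Y' : Scheme.{u}}
  (f : X ⟶ Y) (g : Y ⟶ S) (ρ : Spec (CommRingCat.of A) ⟶ S) [IsOpenImmersion ρ]
  (W : Y.Opens) (hWρ : W ≤ g ⁻¹ᵁ ρ.opensRange)

/-- The structure map of an open over the chart `ρ`. -/
noncomputable def chartHom : (W : Scheme.{u}) ⟶ Spec (CommRingCat.of A) :=
  IsOpenImmersion.lift ρ (W.ι ≫ g) (by rintro _ ⟨z, rfl⟩; exact hWρ z.2)

@[reassoc]
lemma chartHom_fac : chartHom g ρ W hWρ ≫ ρ = W.ι ≫ g := IsOpenImmersion.lift_fac _ _ _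

/-- The map `O(W) → O(f⁻¹ W)` over the ring of the chart. -/
noncomputable def chartMap :=
  @gammaMap A _ (f ⁻¹ᵁ W : X.Opens).toScheme W.toScheme ⟨(f ∣_ W) ≫ chartHom g ρ W hWρ⟩
    ⟨chartHom g ρ W hWρ⟩ (f ∣_ W) rfl

variable [IsProper f]

include hWρ in
theorem chart_hyps (hW : IsAffineOpen W) (hflat : Flat ((f ⁻¹ᵁ W).ι ≫ f ≫ g))
    (hgood : ∀ y ∈ W, Good f y) :
    letI : ((f ⁻¹ᵁ W : X.Opens) : Scheme.{u}).Over (Spec (CommRingCat.of A)) :=
      ⟨(f ∣_ W) ≫ chartHom g ρ W hWρ⟩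
    CompactSpace (f ⁻¹ᵁ W : X.Opens).toScheme ∧ (f ⁻¹ᵁ W : X.Opens).toScheme.IsSeparated ∧
      FlatMod.IsFlatOver ((f ⁻¹ᵁ W : X.Opens).toScheme ↘ Spec (CommRingCat.of A))
        (Coh.structureModule (f ⁻¹ᵁ W : X.Opens).toScheme) ∧
      ∀ p : ℕ, 1 ≤ p → Subsingleton
        (Coh.HH (f ⁻¹ᵁ W : X.Opens) (Coh.structureModule (f ⁻¹ᵁ W : X.Opens).toScheme) p) := by
  letI : ((f ⁻¹ᵁ W : X.Opens) : Scheme.{u}).Over (Spec (CommRingCat.of A)) :=
    ⟨(f ∣_ W) ≫ chartHom g ρ W hWρ⟩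
  have : IsAffine W.toScheme := hW
  haveI : IsProper (f ∣_ W) := MorphismProperty.of_isPullback
    (isPullback_morphismRestrict f W).flip ‹IsProper f›
  refine ⟨QuasiCompact.compactSpace_of_compactSpace (f ∣_ W), ?_, ?_, fun p hp =>
    subsingleton_HH_preimage f hW hgood p hp⟩
  · rw [Scheme.isSeparated_iff,
      show terminal.from _ = (f ∣_ W) ≫ terminal.from _ from Subsingleton.elim _ _]
    infer_instance
  · let j := (f ∣_ W) ≫ chartHom g ρ W hWρ
    have hj : (f ⁻¹ᵁ W).ι ≫ f ≫ g = j ≫ ρ := by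
      rw [Category.assoc, chartHom_fac, ← morphismRestrict_ι_assoc]
    rw [hj] at hflat
    have hsq : IsPullback (𝟙 _) j (j ≫ ρ) ρ := by
      simpa using (IsPullback.of_horiz_isIso (fst := 𝟙 _) (snd := j) (f := j) (g := 𝟙 _)
        ⟨by simp⟩).paste_vert (IsKernelPair.id_of_mono ρ)
    haveI : Flat j := MorphismProperty.of_isPullback hsq hflat
    exact FBaseGeom.isFlatOver_structureModule j

include hWρ in
/-- Global functions on the preimage of a chart are flat. -/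
theorem chart_flat (hW : IsAffineOpen W) (hflat : Flat ((f ⁻¹ᵁ W).ι ≫ f ≫ g))
    (hgood : ∀ y ∈ W, Good f y) :
    letI : ((f ⁻¹ᵁ W : X.Opens) : Scheme.{u}).Over (Spec (CommRingCat.of A)) :=
      ⟨(f ∣_ W) ≫ chartHom g ρ W hWρ⟩
    Module.Flat A (secA A (Coh.structureModule (f ⁻¹ᵁ W : X.Opens).toScheme) ⊤) := by
  letI : ((f ⁻¹ᵁ W : X.Opens) : Scheme.{u}).Over (Spec (CommRingCat.of A)) :=
    ⟨(f ∣_ W) ≫ chartHom g ρ W hWρ⟩
  obtain ⟨_, _, hfl, hH⟩ := chart_hyps f g ρ W hWρ hW hflat hgood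
  haveI : IsIso (Spec.map (CommRingCat.ofHom (algebraMap A A))) := by
    rw [show CommRingCat.ofHom (algebraMap A A) = 𝟙 _ from rfl, Spec.map_id]; infer_instance
  exact (flat_gamma_and_bijective (A' := A) (g := 𝟙 _) (IsPullback.of_horiz_isIso ⟨by
    rw [show CommRingCat.ofHom (algebraMap A A) = 𝟙 _ from rfl, Spec.map_id, Category.comp_id,
      Category.id_comp]⟩) hfl hH).1

variable (g' : Y' ⟶ S') (f' : X' ⟶ Y') {πY : Y' ⟶ Y} {πX : X' ⟶ X} {b : S' ⟶ S}
  (hY : IsPullback πY g' g b) (hX : IsPullback πX f' f πY)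
  (τ : Spec (CommRingCat.of A') ⟶ S') [IsOpenImmersion τ]
  (hτ : τ ≫ b = Spec.map (CommRingCat.ofHom (algebraMap A A')) ≫ ρ)

include hY hX hτ in
/-- Bijectivity of the sections map on a chart of a base change is that of the tensored chart map. -/
theorem app_chart_iff (hW : IsAffineOpen W) (hflat : Flat ((f ⁻¹ᵁ W).ι ≫ f ≫ g))
    (hgood : ∀ y ∈ W, Good f y) :
    (Function.Bijective (f'.app (πY ⁻¹ᵁ W ⊓ g' ⁻¹ᵁ τ.opensRange)) ↔
      Function.Bijective ((chartMap f g ρ W hWρ).rTensor A')) ∧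
    (Function.Surjective (f'.app (πY ⁻¹ᵁ W ⊓ g' ⁻¹ᵁ τ.opensRange)) ↔
      Function.Surjective ((chartMap f g ρ W hWρ).rTensor A')) ∧
    ((f.app W).hom.Finite → (f'.app (πY ⁻¹ᵁ W ⊓ g' ⁻¹ᵁ τ.opensRange)).hom.Finite) := by
  let W' := πY ⁻¹ᵁ W ⊓ g' ⁻¹ᵁ τ.opensRange
  let gY : (W' : Scheme.{u}) ⟶ (W : Scheme.{u}) := πY.resLE W W' inf_le_left
  have hgY : gY ≫ W.ι = W'.ι ≫ πY := Scheme.Hom.resLE_comp_ι _ _
  let gA := IsOpenImmersion.lift τ (W'.ι ≫ g') (by rintro _ ⟨z, rfl⟩; exact z.2.2)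
  have hgA : gA ≫ τ = W'.ι ≫ g' := IsOpenImmersion.lift_fac _ _ _
  letI : (W : Scheme.{u}).Over (Spec (CommRingCat.of A)) := ⟨chartHom g ρ W hWρ⟩
  letI : ((f ⁻¹ᵁ W : X.Opens) : Scheme.{u}).Over (Spec (CommRingCat.of A)) :=
    ⟨(f ∣_ W) ≫ chartHom g ρ W hWρ⟩
  letI : (W' : Scheme.{u}).Over (Spec (CommRingCat.of A')) := ⟨gA⟩
  letI : ((f' ⁻¹ᵁ W' : X'.Opens) : Scheme.{u}).Over (Spec (CommRingCat.of A')) :=
    ⟨(f' ∣_ W') ≫ gA⟩
  have hsqY : IsBC (A := A) (A' := A') gY :=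
    isPullback_opens hY ρ τ _ hτ W _ (chartHom_fac g ρ W hWρ) W' (fun z => Iff.rfl) gY hgY gA hgA
  let gX : ((f' ⁻¹ᵁ W' : X'.Opens) : Scheme.{u}) ⟶ (f ⁻¹ᵁ W : X.Opens) :=
    πX.resLE (f ⁻¹ᵁ W) (f' ⁻¹ᵁ W') (fun z hz => by
      show f (πX z) ∈ W
      rw [← Scheme.Hom.comp_apply, hX.w]
      exact hz.1)
  have hgX : gX ≫ (f ⁻¹ᵁ W).ι = (f' ⁻¹ᵁ W').ι ≫ πX := Scheme.Hom.resLE_comp_ι _ _
  have hw : gX ≫ (f ∣_ W) = (f' ∣_ W') ≫ gY := by
    rw [← cancel_mono W.ι, Category.assoc, morphismRestrict_ι, reassoc_of% hgX, hX.w,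
      Category.assoc, hgY, morphismRestrict_ι_assoc]
  have h1 : IsPullback gX (f' ∣_ W') (f ∣_ W) gY := by
    refine IsPullback.of_right ?_ hw (isPullback_morphismRestrict f W).flip
    rw [hgX, hgY]
    exact (isPullback_morphismRestrict f' W').flip.paste_horiz hX
  have hsqX : IsBC (A := A) (A' := A') gX := h1.paste_vert hsqY
  haveI : IsAffine W.toScheme := hW
  obtain ⟨_, _, hfl, hH⟩ := chart_hyps f g ρ W hWρ hW hflat hgood
  rw [app_bijective_iff_restrict f' W', app_surjective_iff_restrict f' W',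
    finite_app_iff_restrict f' W', finite_app_iff_restrict f W]
  exact ⟨appTop_bijective_iff (f ∣_ W) rfl hsqX hsqY (f' ∣_ W') rfl hw hfl hH,
    appTop_surjective_iff (f ∣_ W) rfl hsqX hsqY (f' ∣_ W') rfl hw hfl hH,
    finite_appTop_baseChange (gY := gY) (f ∣_ W) hsqX (f' ∣_ W') hw hfl hH rfl⟩

include hY hX hτ in
/-- Bijectivity of the sections map on a chart of a base change is that of the tensored chart map. -/
theorem app_bijective_iff (hW : IsAffineOpen W) (hflat : Flat ((f ⁻¹ᵁ W).ι ≫ f ≫ g))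
    (hgood : ∀ y ∈ W, Good f y) :
    Function.Bijective (f'.app (πY ⁻¹ᵁ W ⊓ g' ⁻¹ᵁ τ.opensRange)) ↔
      Function.Bijective ((chartMap f g ρ W hWρ).rTensor A') :=
  (app_chart_iff f g ρ W hWρ g' f' hY hX τ hτ hW hflat hgood).1

include hY hX hτ in
/-- Surjectivity of the sections map on a chart of a base change is that of the tensored chart map. -/
theorem app_surjective_iff (hW : IsAffineOpen W) (hflat : Flat ((f ⁻¹ᵁ W).ι ≫ f ≫ g))
    (hgood : ∀ y ∈ W, Good f y) :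
    Function.Surjective (f'.app (πY ⁻¹ᵁ W ⊓ g' ⁻¹ᵁ τ.opensRange)) ↔
      Function.Surjective ((chartMap f g ρ W hWρ).rTensor A') :=
  (app_chart_iff f g ρ W hWρ g' f' hY hX τ hτ hW hflat hgood).2.1

end Chart

end Groth.Contraction
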