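import Groth.Agent.Contraction.Near

/-!
# Factoring through a contraction near a fibre
-/

universe u

open CategoryTheory Limits AlgebraicGeometry TopologicalSpace Opposite

set_option backward.isDefEq.respectTransparency.types false

namespace Groth.Contraction

open Groth.AlgGrp1

lemma restrict_apply {X Y : Scheme.{u}} (f : X ⟶ Y) (O : Y.Opens)
    (x : ((f ⁻¹ᵁ O : X.Opens) : Scheme.{u})) : ((f ∣_ O) x).1 = f x.1 :=
  congr($(morphismRestrict_ι f O) x)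

variable {X Y W S : Scheme.{u}}

/-- A morphism into an affine scheme factors through a morphism of affine target inducing an
isomorphism on global functions. -/
theorem exists_factor_affine (f : X ⟶ Y) [IsAffine Y] [IsAffine W] [IsIso f.appTop] (h : X ⟶ W) :
    ∃ b : Y ⟶ W, f ≫ b = h := by
  refine ⟨Y.isoSpec.hom ≫ Spec.map (h.appTop ≫ inv f.appTop) ≫ W.isoSpec.inv, ?_⟩
  apply ext_of_isAffine
  have happ : (Y.isoSpec.hom ≫ Spec.map (h.appTop ≫ inv f.appTop) ≫ W.isoSpec.inv).appTop =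
      h.appTop ≫ inv f.appTop := by
    apply Spec.map_injective
    have := Scheme.isoSpec_hom_naturality (Y.isoSpec.hom ≫ Spec.map (h.appTop ≫ inv f.appTop) ≫ W.isoSpec.inv)
    rw [← cancel_epi Y.isoSpec.hom, this]
    simp
  rw [Scheme.Hom.comp_appTop, happ, Category.assoc, IsIso.inv_hom_id, Category.comp_id]

/-- Over an affine open with `O = f_* O`, a morphism sending the preimage into an affine open is
constant on the fibres. -/
theorem const_on_fibres (f : X ⟶ Y) (c : X ⟶ W) {B : Y.Opens} (hB : IsAffineOpen B)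
    [IsIso (f.app B)] {V₂ : W.Opens} (hV₂ : IsAffineOpen V₂) (hle : f ⁻¹ᵁ B ≤ c ⁻¹ᵁ V₂)
    {x x' : X} (hx : f x ∈ B) (he : f x = f x') : c x = c x' := by
  have : IsAffine B.toScheme := hB
  have : IsAffine V₂.toScheme := hV₂
  have := isIso_appTop_restrict f B
  let h : ((f ⁻¹ᵁ B : X.Opens) : Scheme.{u}) ⟶ (V₂ : Scheme.{u}) := c.resLE V₂ (f ⁻¹ᵁ B) hle
  obtain ⟨b, hb⟩ := exists_factor_affine (f ∣_ B) h
  have hx' : f x' ∈ B := he ▸ hx
  have key : ∀ z : ((f ⁻¹ᵁ B : X.Opens) : Scheme.{u}), c z.1 = V₂.ι (b ((f ∣_ B) z)) := fun z => by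
    have h1 : (f ∣_ B) ≫ b ≫ V₂.ι = (f ⁻¹ᵁ B).ι ≫ c := by
      rw [← Category.assoc, hb, Scheme.Hom.resLE_comp_ι]
    exact (congr($h1 z)).symm
  refine (key ⟨x, hx⟩).trans (Eq.trans ?_ (key ⟨x', hx'⟩).symm)
  exact congrArg (fun w => V₂.ι (b w)) (Subtype.ext ((restrict_apply f B ⟨x, hx⟩).trans (he.trans (restrict_apply f B ⟨x', hx'⟩).symm)))

/-- A morphism contracted on the fibre over `s` descends along a contraction near that fibre. -/
theorem exists_desc_near (c₁ : X ⟶ Y) (g₁ : Y ⟶ S) (c₂ : X ⟶ W) (g₂ : W ⟶ S)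
    (hg : c₁ ≫ g₁ = c₂ ≫ g₂) [IsProper c₁] [UniversallyClosed g₁] (s : S) (V : Y.Opens)
    (hsV : g₁ ⁻¹' {s} ⊆ (V : Set Y)) (hiso : ∀ U : Y.Opens, U ≤ V → IsIso (c₁.app U))
    (hcontr : ∀ x x' : X, g₁ (c₁ x) = s → c₁ x = c₁ x' → c₂ x = c₂ x') :
    ∃ U : S.Opens, s ∈ U ∧ g₁ ⁻¹ᵁ U ≤ V ∧ ∃ h : ((g₁ ⁻¹ᵁ U : Y.Opens) : Scheme.{u}) ⟶ W,
      (c₁ ∣_ (g₁ ⁻¹ᵁ U)) ≫ h = (c₁ ⁻¹ᵁ g₁ ⁻¹ᵁ U).ι ≫ c₂ ∧ h ≫ g₂ = (g₁ ⁻¹ᵁ U).ι ≫ g₁ := by
  have hsurj : ∀ y ∈ V, ∃ x, c₁ x = y := fun y hy => by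
    haveI : UniversallyClosed (c₁ ∣_ V) := MorphismProperty.of_isPullback
      (isPullback_morphismRestrict c₁ V).flip (inferInstanceAs (UniversallyClosed c₁))
    have hP : PushIso (c₁ ∣_ V) := pushIso_of_isIso_app fun U _ =>
      isIso_app_restrict c₁ V U (hiso _ ((V.ι.image_le_opensRange _).trans_eq V.opensRange_ι))
    obtain ⟨x, hx⟩ := hP.surjective.surj ⟨y, hy⟩
    exact ⟨x.1, (restrict_apply c₁ V x).symm.trans (congrArg Subtype.val hx)⟩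
  let G : Set Y := {y | ∃ B : Y.Opens, y ∈ B ∧ B ≤ V ∧
    ∀ x x' : X, c₁ x ∈ B → c₁ x = c₁ x' → c₂ x = c₂ x'}
  have hG : IsOpen G := by
    rw [isOpen_iff_forall_mem_open]
    rintro y ⟨B, hy, hBV, hB⟩
    exact ⟨B, fun z hz => ⟨B, hz, hBV, hB⟩, B.2, hy⟩
  have hsG : g₁ ⁻¹' {s} ⊆ G := fun y hy => by
    obtain ⟨x, rfl⟩ := hsurj y (hsV hy)
    obtain ⟨V₂, hV₂, hxV₂, -⟩ :=
      exists_isAffineOpen_mem_and_subset (U := (⊤ : W.Opens)) (x := c₂ x) trivial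
    let N : Set Y := c₁ '' ((c₂ ⁻¹ᵁ V₂ : X.Opens) : Set X)ᶜ
    have hN : IsClosed N := c₁.isClosedMap _ (c₂ ⁻¹ᵁ V₂).2.isClosed_compl
    have hy' : c₁ x ∉ N := by
      rintro ⟨x', hx', he⟩
      exact hx' (show c₂ x' ∈ V₂ from hcontr x x' hy he.symm ▸ hxV₂)
    obtain ⟨B, hB, hxB, hBV⟩ := exists_isAffineOpen_mem_and_subset
      (U := V ⊓ ⟨Nᶜ, hN.isOpen_compl⟩) (x := c₁ x) ⟨hsV hy, hy'⟩
    haveI := hiso B fun z hz => (hBV hz).1
    refine ⟨B, hxB, fun z hz => (hBV hz).1, fun a a' ha he =>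
      const_on_fibres c₁ c₂ hB hV₂ (fun z hz => ?_) ha he⟩
    by_contra h
    exact (hBV hz).2 ⟨z, h, rfl⟩
  let U : S.Opens := ⟨(g₁ '' Gᶜ)ᶜ, (g₁.isClosedMap _ hG.isClosed_compl).isOpen_compl⟩
  have hUG : ∀ y : Y, g₁ y ∈ U → y ∈ G := fun y hy => by
    by_contra h
    exact hy ⟨y, h, rfl⟩
  have hUV : g₁ ⁻¹ᵁ U ≤ V := fun y hy => by
    obtain ⟨B, hyB, hBV, -⟩ := hUG y hy
    exact hBV hyB
  let O := g₁ ⁻¹ᵁ U
  let q := c₁ ∣_ O
  haveI : UniversallyClosed q := MorphismProperty.of_isPullback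
    (isPullback_morphismRestrict c₁ O).flip (inferInstanceAs (UniversallyClosed c₁))
  have hP : PushIso q := pushIso_of_isIso_app fun U' _ =>
    isIso_app_restrict c₁ O U' (hiso _ (((O.ι.image_le_opensRange _).trans_eq O.opensRange_ι).trans hUV))
  haveI := hP.surjective
  obtain ⟨h, hh⟩ := hP.exists_desc ((c₁ ⁻¹ᵁ O).ι ≫ c₂) fun x x' he => by
    have he' : c₁ x.1 = c₁ x'.1 := (restrict_apply c₁ O x).symm.trans
      ((congrArg Subtype.val he).trans (restrict_apply c₁ O x'))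
    obtain ⟨B, hyB, -, hB⟩ := hUG (c₁ x.1) x.2
    exact hB _ _ hyB he'
  refine ⟨U, fun ⟨y, hy, hys⟩ => hy (hsG hys), hUV, h, hh, hP.cancel _ _ ?_⟩
  rw [reassoc_of% hh, ← hg, morphismRestrict_ι_assoc]

/-- `O = c_* O` near the fibre from a chosen morphism of fibres. -/
theorem exists_nhd_of_square (c : X ⟶ Y) (g : Y ⟶ S) [IsProper c] [LocallyOfFinitePresentation g]
    [LocallyOfFinitePresentation (c ≫ g)] [Flat (c ≫ g)] (s : S) {Xs Ys : Scheme.{u}}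
    {iX : Xs ⟶ X} {qX : Xs ⟶ Spec (S.residueField s)}
    (hXs : IsPullback iX qX (c ≫ g) (S.fromSpecResidueField s))
    {i : Ys ⟶ Y} {q : Ys ⟶ Spec (S.residueField s)} (hYs : IsPullback i q g (S.fromSpecResidueField s))
    {d : Xs ⟶ Ys} (hd : d ≫ i = iX ≫ c) (hdq : d ≫ q = qX)
    (hiso : ∀ U : Ys.Opens, IsIso (d.app U)) (hgood : ∀ y' : Ys, Good d y') :
    ∃ V : Y.Opens, g ⁻¹' {s} ⊆ (V : Set Y) ∧ ∀ U : Y.Opens, U ≤ V → IsIso (c.app U) := by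
  have hsq : IsPullback iX d c i := by
    refine IsPullback.of_bot ?_ hd.symm hYs
    rwa [hdq]
  have hgy : ∀ y : Y, g y = s → Good c y := fun y hy => by
    obtain ⟨z, rfl⟩ : y ∈ Set.range i := by
      rw [show i = hYs.isoPullback.hom ≫ g.fiberι s from hYs.isoPullback_hom_fst.symm]
      obtain ⟨z, hz⟩ : y ∈ Set.range (g.fiberι s) := by rw [Scheme.Hom.range_fiberι]; exact hy
      exact ⟨hYs.isoPullback.inv z,
        (congr($(Iso.inv_hom_id_assoc hYs.isoPullback (g.fiberι s)) z)).trans hz⟩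
    exact (good_baseChange_iff c hsq z).1 (hgood z)
  obtain ⟨O, hsO, hOg, hOfl⟩ :=
    exists_good_flat_open c g s (fun x _ => Flat.stalkMap (c ≫ g) x) hgy
  let φ : Ys ≅ g.fiber s := hYs.isoPullback
  let ψ : Xs ≅ (c ≫ g).fiber s := hXs.isoPullback
  have hψ₁ : ψ.hom ≫ (c ≫ g).fiberι s = iX := hXs.isoPullback_hom_fst
  have hψ₂ : ψ.hom ≫ (c ≫ g).fiberToSpecResidueField s = qX := hXs.isoPullback_hom_snd
  have hφ₁ : φ.hom ≫ g.fiberι s = i := hYs.isoPullback_hom_fst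
  have hφ₂ : φ.hom ≫ g.fiberToSpecResidueField s = q := hYs.isoPullback_hom_snd
  have hm₁ : MoreMor.fiberMap c g s ≫ g.fiberι s = (c ≫ g).fiberι s ≫ c := pullback.lift_fst _ _ _
  have hm₂ : MoreMor.fiberMap c g s ≫ g.fiberToSpecResidueField s =
      (c ≫ g).fiberToSpecResidueField s := pullback.lift_snd _ _ _
  have hfm : MoreMor.fiberMap c g s = ψ.inv ≫ d ≫ φ.hom := by
    refine (Iso.eq_inv_comp ψ).2 ((IsPullback.of_hasPullback g (S.fromSpecResidueField s)).hom_ext ?_ ?_)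
    · change (ψ.hom ≫ MoreMor.fiberMap c g s) ≫ g.fiberι s = (d ≫ φ.hom) ≫ g.fiberι s
      rw [Category.assoc, hm₁, reassoc_of% hψ₁, Category.assoc, hφ₁, hd]
    · change (ψ.hom ≫ MoreMor.fiberMap c g s) ≫ g.fiberToSpecResidueField s =
        (d ≫ φ.hom) ≫ g.fiberToSpecResidueField s
      rw [Category.assoc, hm₂, hψ₂, Category.assoc, hφ₂, hdq]
  obtain ⟨V, hsV, -, -, hV⟩ := exists_nhd c g s O hsO hOg hOfl fun U => by
    rw [hfm, Scheme.Hom.comp_app, Scheme.Hom.comp_app]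
    haveI := hiso (φ.hom ⁻¹ᵁ U)
    exact IsIso.comp_isIso' (IsIso.comp_isIso' inferInstance (hiso (φ.hom ⁻¹ᵁ U)))
      (show IsIso (ψ.inv.app ((d ≫ φ.hom) ⁻¹ᵁ U)) from inferInstance)
  exact ⟨V, hsV, hV⟩

end Groth.Contraction
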