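import Groth.Agent.CohBase.FlatCohBaseChange

/-!
# Global functions commute with base change for a flat family without higher cohomology

For `X` quasi-compact, separated and flat over a ring `A` with `H^p(X, O) = 0` for `p ≥ 1`, the module
`Γ(X, O)` is flat over `A` and its formation commutes with every change of the base ring.
-/

universe u

open CategoryTheory Limits AlgebraicGeometry TopologicalSpace Opposite
open scoped TensorProduct
open Groth.QCohMod (resFun resFun_resFun)

set_option backward.isDefEq.respectTransparency.types false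

namespace Groth.Contraction

open Groth.CohBase Groth.CohBase.CxRank Groth.FlatCxBase

variable {A A' : Type u} [CommRing A] [CommRing A'] [Algebra A A'] {X X' : Scheme.{u}}
  [X.Over (Spec (CommRingCat.of A))] [X'.Over (Spec (CommRingCat.of A'))] {g : X' ⟶ X}
  (hsq : IsBC (A := A) (A' := A') g)

local notation "O" => Coh.structureModule X

lemma resFun_app {V W : X.Opens} (h : V ≤ W) (r : Γ(X, W)) :
    resFun X' (g.preimage_mono h) (g.app W r) = g.app V (resFun X h r) :=
  (congr($(g.naturality (homOfLE h).op) r)).symm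

include hsq in
/-- The map `Γ(X, W) ⊗_A A' → Γ(X', g⁻¹ W)`. -/
noncomputable def funBC (W : X.Opens) : secA A O W ⊗[A] A' →+ Γ(X', g ⁻¹ᵁ W) :=
  TensorProduct.liftAddHom
    (AddMonoidHom.mk' (fun s => AddMonoidHom.mk'
        (fun b => g.app W (show Γ(X, W) from s) * toSec A' (g ⁻¹ᵁ W) b)
        fun b b' => by rw [map_add, mul_add])
      fun s s' => AddMonoidHom.ext fun b =>
        (congrArg (· * toSec A' (g ⁻¹ᵁ W) b) (map_add (g.app W).hom (show Γ(X, W) from s)
          (show Γ(X, W) from s'))).trans (add_mul _ _ _))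
    fun a s b => by
      change g.app W (toSec A W a * (show Γ(X, W) from s)) * toSec A' (g ⁻¹ᵁ W) b =
        g.app W (show Γ(X, W) from s) * toSec A' (g ⁻¹ᵁ W) (a • b)
      rw [map_mul, app_toSec hsq, Algebra.smul_def, map_mul]
      ring

lemma funBC_tmul (W : X.Opens) (s : secA A O W) (b : A') :
    funBC hsq W (s ⊗ₜ b) = g.app W (show Γ(X, W) from s) * toSec A' (g ⁻¹ᵁ W) b := rfl

lemma funBC_res {V W : X.Opens} (h : V ≤ W) (z : secA A O W ⊗[A] A') :
    resFun X' (g.preimage_mono h) (funBC hsq W z) = funBC hsq V ((secRes A O h).rTensor A' z) := by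
  induction z using TensorProduct.induction_on with
  | zero => simp only [map_zero]
  | tmul s b =>
    rw [funBC_tmul, LinearMap.rTensor_tmul, funBC_tmul, map_mul, resFun_toSec]
    exact congrArg (· * toSec A' (g ⁻¹ᵁ V) b) (resFun_app h (show Γ(X, W) from s))
  | add p q hp hq => simp only [map_add, hp, hq]

theorem funBC_bijective {W : X.Opens} (hW : IsAffineOpen W) : Function.Bijective (funBC hsq W) := by
  let : Algebra A Γ(X, W) := (toSec A W).toAlgebra
  let h₀ := CommRingCat.isPushout_tensorProduct A Γ(X, W) A'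
  let i := IsPushout.isoIsPushout _ _ h₀ (isPushout_toSec hsq hW)
  let e : secA A O W ≃ₗ[A] Γ(X, W) :=
    { toFun := fun s => s
      invFun := fun s => s
      map_add' := fun _ _ => rfl
      map_smul' := fun _ _ => rfl }
  have hi : ∀ z, funBC hsq W z = i.hom ((TensorProduct.congr e (LinearEquiv.refl A A')) z) := by
    intro z
    induction z using TensorProduct.induction_on with
    | zero => simp only [map_zero]
    | tmul r b =>
      rw [funBC_tmul, TensorProduct.congr_tmul]
      change _ = i.hom ((e r) ⊗ₜ[A] b)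
      rw [show (e r) ⊗ₜ[A] b = ((e r) ⊗ₜ[A] (1 : A')) * ((1 : Γ(X, W)) ⊗ₜ[A] b) by simp]
      refine Eq.trans ?_ (map_mul i.hom.hom _ _).symm
      congr 1
      · exact congr($(IsPushout.inl_isoIsPushout_hom _ _ h₀ (isPushout_toSec hsq hW)) (e r)).symm
      · exact congr($(IsPushout.inr_isoIsPushout_hom _ _ h₀ (isPushout_toSec hsq hW)) b).symm
    | add p q hp hq => simp only [map_add, hp, hq]
  rw [show (funBC hsq W : _ → _) = i.commRingCatIsoToRingEquiv ∘
      TensorProduct.congr e (LinearEquiv.refl A A') from funext hi]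
  exact i.commRingCatIsoToRingEquiv.bijective.comp (LinearEquiv.bijective _)

section Cech

variable (A) [CompactSpace X] [X.IsSeparated]

omit [CompactSpace X] [X.IsSeparated] in
/-- The augmentation of the Čech complex of `O`. -/
noncomputable def aug {ι : Type u} (U : ι → X.Opens) : secA A O ⊤ →ₗ[A] cxC A U O 0 :=
  LinearMap.pi fun _ => secRes A O le_top

omit [CompactSpace X] [X.IsSeparated] in
lemma cxD_zero_apply {ι : Type u} (U : ι → X.Opens) (c : cxC A U O 0) (x : Fin 2 → ι) :
    cxD A U O 0 c x =
      secRes A O (inter_comp (X := X.toTopCat) U x (0 : Fin 2).succAbove) (c (x ∘ (0 : Fin 2).succAbove)) -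
      secRes A O (inter_comp (X := X.toTopCat) U x (1 : Fin 2).succAbove) (c (x ∘ (1 : Fin 2).succAbove)) := by
  rw [cxD, LinearMap.pi_apply, LinearMap.sum_apply, Fin.sum_univ_two]
  simp [sub_eq_add_neg]
  rfl

omit [CompactSpace X] [X.IsSeparated] in
lemma exact_aug {ι : Type u} (U : ι → X.Opens) (hcov : ⨆ i, U i = ⊤) :
    Function.Injective (aug A U) ∧ Function.Exact (aug A U) (cxD A U O 0) := by
  let V : (Fin 1 → ι) → X.Opens := fun x => tupOpen U x
  have hV : (⊤ : X.Opens) ≤ ⨆ x, V x := fun p hp => by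
    obtain ⟨i, hi⟩ := Opens.mem_iSup.1 (hcov.ge hp)
    refine Opens.mem_iSup.2 ⟨fun _ => i, ?_⟩
    show p ∈ tupOpen U (fun _ : Fin 1 => i)
    rw [tupOpen, inter, ← SetLike.mem_coe, Opens.coe_iInf, Set.mem_iInter]
    exact fun _ => hi
  refine ⟨fun s t h => ?_, fun c => ⟨fun hc => ?_, ?_⟩⟩
  · exact X.sheaf.eq_of_locally_eq' V ⊤ (fun x => homOfLE le_top) hV (show Γ(X, ⊤) from s)
      (show Γ(X, ⊤) from t) fun x => congrFun h x
  · have hcompat : TopCat.Presheaf.IsCompatible X.sheaf.1 V (fun x => (show Γ(X, V x) from c x)) := by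
      intro x y
      let w : Fin 2 → ι := ![y 0, x 0]
      have h := congrFun hc w
      rw [cxD_zero_apply] at h
      have h₀ : w ∘ (0 : Fin 2).succAbove = x := funext fun a => by
        fin_cases a
        simp [w]
      have h₁ : w ∘ (1 : Fin 2).succAbove = y := funext fun a => by
        fin_cases a
        simp [w]
      have hle : V x ⊓ V y ≤ tupOpen U w := le_iInf fun a => by
        fin_cases a
        · exact inf_le_right.trans (inter_le (X := X.toTopCat) U y 0)
        · exact inf_le_left.trans (inter_le (X := X.toTopCat) U x 0)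
      have key : ∀ (z z' : Fin 1 → ι) (_ : z = z') (hz : tupOpen U w ≤ tupOpen U z)
          (hz' : V x ⊓ V y ≤ tupOpen U z'),
          resFun X hle (show Γ(X, tupOpen U w) from secRes A O hz (c z)) =
            resFun X hz' (show Γ(X, tupOpen U z') from c z') := by
        rintro z z' rfl hz hz'
        exact resFun_resFun hz hle (show Γ(X, tupOpen U z) from c z)
      have := congrArg (fun t : secA A O (tupOpen U w) => resFun X hle (show Γ(X, tupOpen U w) from t))
        (sub_eq_zero.1 h)
      simp only at this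
      rw [key _ _ h₀ _ inf_le_left, key _ _ h₁ _ inf_le_right] at this
      exact this
    obtain ⟨s, hs, -⟩ := X.sheaf.existsUnique_gluing' V ⊤ (fun x => homOfLE le_top) hV _ hcompat
    exact ⟨(show secA A O ⊤ from s), funext hs⟩
  · rintro ⟨s, rfl⟩
    funext w
    rw [cxD_zero_apply]
    refine sub_eq_zero.2 ?_
    exact (resFun_resFun _ _ (show Γ(X, ⊤) from s)).trans
      (resFun_resFun _ _ (show Γ(X, ⊤) from s)).symm

variable {A}

/-- The cokernel of the first Čech differential is flat when the higher cohomology vanishes. -/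
theorem flat_coker (G : GoodCover X)
    (hfl : FlatMod.IsFlatOver (X ↘ Spec (CommRingCat.of A)) O)
    (hH : ∀ p : ℕ, 1 ≤ p → Subsingleton (Coh.HH X O p)) :
    Module.Flat A (cxC A G.U O 1 ⧸ LinearMap.range (cxD A G.U O 0)) := by
  let L := cxA A G.U O
  have : ∀ i, Module.Flat A (L.X i) := flat_cxA A G.U O fun x => flat_secA A O hfl (G.affine x)
  obtain ⟨b, hb⟩ := exists_isZero_T A G O
  have e : ∀ p : ℕ, Hk L (p : ℤ) ≃ₗ[A] Coh.HH X O p := fun p =>
    (tOneEquiv L (p : ℤ)).symm.trans (selfLinIso A G O p)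
  have h := flat_Qc_of_flat_Hk' L b hb 1 (fun i hi => by
    obtain ⟨p, rfl⟩ : ∃ p : ℕ, i = p := ⟨i.toNat, by omega⟩
    have := hH p (by omega)
    have := (e p).toEquiv.subsingleton
    infer_instance) (((0 : ℕ) : ℤ) + 1) (by simp)
  have hd : LinearMap.range (L.d (((0 : ℕ) : ℤ)) (((0 : ℕ) : ℤ) + 1)).hom =
      LinearMap.range (cxD A G.U O 0) :=
    congrArg (fun φ => LinearMap.range φ.hom) (cxA_d A G.U O 0)
  refine Module.Flat.of_linearEquiv (M := Qc L (((0 : ℕ) : ℤ) + 1)) ?_
  exact ((Submodule.quotEquivOfEq _ _ (by rw [range_dq, ← hd])).symm.trans (cokerDqEquiv L ((0 : ℕ) : ℤ)))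

/-- Global functions are flat over the base and commute with base change, when the higher cohomology
of `O` vanishes. -/
theorem flat_gamma_and_bijective (hfl : FlatMod.IsFlatOver (X ↘ Spec (CommRingCat.of A)) O)
    (hH : ∀ p : ℕ, 1 ≤ p → Subsingleton (Coh.HH X O p)) :
    Module.Flat A (secA A O ⊤) ∧ Function.Bijective (funBC hsq ⊤) := by
  obtain ⟨G⟩ := exists_goodCover X
  obtain ⟨hinj, hex⟩ := exact_aug A G.U G.hcov
  have hfC : ∀ n, Module.Flat A (cxC A G.U O n) := fun n =>
    have := fun x : Fin (n + 1) → G.ι => flat_secA A O hfl (G.affine x)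
    flat_pi (fun x : Fin (n + 1) → G.ι => secA A O (tupOpen G.U x))
  have := hfC 0
  have := hfC 1
  have := flat_coker G hfl hH
  let R := LinearMap.range (cxD A G.U O 0)
  let d := (cxD A G.U O 0).rangeRestrict
  have hR : Module.Flat A R :=
    flat_of_exact_flat_left (f := R.subtype) (g := R.mkQ) Subtype.val_injective
      (Submodule.mkQ_surjective _) (LinearMap.exact_subtype_mkQ _)
  have hexd : Function.Exact (aug A G.U) d := by
    rw [LinearMap.exact_iff, LinearMap.ker_rangeRestrict]
    exact hex.linearMap_ker_eq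
  refine ⟨flat_of_exact_flat_left (f := aug A G.U) (g := d) hinj (LinearMap.surjective_rangeRestrict _) hexd, ?_⟩
  have hρ : Function.Injective ((aug A G.U).rTensor A') :=
    rTensor_injective_of_flat (g := d) hinj (LinearMap.surjective_rangeRestrict _) hexd A'
  have hRi : Function.Injective (R.subtype.rTensor A') :=
    rTensor_injective_of_flat (g := R.mkQ) Subtype.val_injective
      (Submodule.mkQ_surjective _) (LinearMap.exact_subtype_mkQ _) A'
  have hexA : ∀ c, (cxD A G.U O 0).rTensor A' c = 0 → c ∈ Set.range ((aug A G.U).rTensor A') := by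
    intro c hc
    refine ((rTensor_exact A' hexd (LinearMap.surjective_rangeRestrict _)) c).1 (hRi ?_)
    rw [map_zero, ← LinearMap.rTensor_comp_apply]
    exact hc
  let pr := fun {n : ℕ} (x : Fin (n + 1) → G.ι) =>
    (LinearMap.proj (R := A) (φ := fun x => secA A O (tupOpen G.U x)) x).rTensor A'
  let π : (n : ℕ) → cxC A G.U O n ⊗[A] A' → (x : Fin (n + 1) → G.ι) → Γ(X', g ⁻¹ᵁ tupOpen G.U x) :=
    fun n c x => funBC hsq (tupOpen G.U x) (pr x c)
  have hprojinj : ∀ n (c : cxC A G.U O n ⊗[A] A'), (∀ x, π n c x = 0) → c = 0 := by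
    classical
    intro n c hc
    have := Fintype.ofFinite G.ι
    let φ := fun x : Fin (n + 1) → G.ι => (secA A O (tupOpen G.U x) : Type u)
    have hid : ∑ x, (LinearMap.single A φ x).comp (LinearMap.proj x) = LinearMap.id := by
      refine LinearMap.ext fun s => funext fun y => ?_
      simp [LinearMap.sum_apply, Finset.sum_apply]
    rw [← LinearMap.id_apply (R := A) c, ← LinearMap.rTensor_id A', ← hid, rTensor_sum_apply]
    refine Finset.sum_eq_zero fun x _ => ?_
    rw [LinearMap.rTensor_comp_apply]
    have h0 : pr x c = 0 := (funBC_bijective hsq (G.affine x)).1 ((hc x).trans (map_zero _).symm)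
    exact (congrArg _ h0).trans (map_zero _)
  have haug : ∀ (z : secA A O ⊤ ⊗[A] A') (x : Fin 1 → G.ι),
      π 0 ((aug A G.U).rTensor A' z) x = resFun X' (g.preimage_mono le_top) (funBC hsq ⊤ z) := by
    intro z x
    rw [funBC_res]
    refine congrArg (funBC hsq _) ?_
    simp only [pr]
    rw [← LinearMap.rTensor_comp_apply, aug, LinearMap.proj_pi]
  refine ⟨fun z w h => hρ (sub_eq_zero.1 (hprojinj 0 _ fun x => ?_)), fun s => ?_⟩
  · have : π 0 ((aug A G.U).rTensor A' (z - w)) x = 0 := by
      rw [haug, map_sub, sub_eq_zero.2 h, map_zero]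
    rwa [map_sub] at this
  · classical
    have := Fintype.ofFinite G.ι
    choose c hc using fun x : Fin 1 → G.ι =>
      (funBC_bijective hsq (G.affine x)).2 (resFun X' (g.preimage_mono le_top) s)
    let φ := fun x : Fin 1 → G.ι => (secA A O (tupOpen G.U x) : Type u)
    let C : cxC A G.U O 0 ⊗[A] A' := ∑ x, (LinearMap.single A φ x).rTensor A' (c x)
    have hC : ∀ x, pr x C = c x := by
      intro y
      simp only [pr, C]
      rw [map_sum, Finset.sum_eq_single y]
      · rw [← LinearMap.rTensor_comp_apply, LinearMap.proj_comp_single_same, LinearMap.rTensor_id]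
        rfl
      · intro x _ hx
        rw [← LinearMap.rTensor_comp_apply]
        simp [φ, LinearMap.proj_comp_single_ne A φ y x (Ne.symm hx)]
      · simp
    have hd0 : (cxD A G.U O 0).rTensor A' C = 0 := hprojinj 1 _ fun w => by
      simp only [π, pr]
      rw [← LinearMap.rTensor_comp_apply, cxD, LinearMap.proj_pi, rTensor_sum_apply, map_sum,
        Fin.sum_univ_two]
      simp only [rTensor_zsmul_apply, map_zsmul, LinearMap.rTensor_comp_apply]
      have hC' : ∀ x : Fin 1 → G.ι,
          (LinearMap.proj (R := A) (φ := fun x => secA A O (tupOpen G.U x)) x).rTensor A' C = c x := hC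
      rw [hC', hC', ← funBC_res, ← funBC_res, hc, hc, resFun_resFun, resFun_resFun]
      simp
    obtain ⟨z, hz⟩ := hexA C hd0
    refine ⟨z, X'.sheaf.eq_of_locally_eq' (fun i => g ⁻¹ᵁ G.U i) (g ⁻¹ᵁ ⊤)
      (fun i => homOfLE (g.preimage_mono le_top)) (fun p _ => ?_) _ _ fun i => ?_⟩
    · obtain ⟨i, hi⟩ := Opens.mem_iSup.1 (G.hcov.ge (Opens.mem_top (g p)))
      exact Opens.mem_iSup.2 ⟨i, hi⟩
    · have hle : G.U i ≤ tupOpen G.U (fun _ : Fin 1 => i) := le_iInf fun _ => le_rfl
      have h := haug z (fun _ => i)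
      rw [hz] at h
      simp only [π] at h
      rw [hC, hc] at h
      have h' := congrArg (resFun X' (g.preimage_mono hle)) h
      rw [resFun_resFun, resFun_resFun] at h'
      exact h'.symm

end Cech

end Groth.Contraction
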