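import Groth.Agent.Pur21Iso.Model

/-! Noetherian models of a proper morphism with flat composite. -/

set_option autoImplicit false
set_option backward.isDefEq.respectTransparency false
set_option linter.style.haveILetI false
universe u

open CategoryTheory CategoryTheory.Limits AlgebraicGeometry

namespace Groth.Contraction

open Groth.SpectralTopology Groth.Limits

/-- A proper morphism between finitely presented schemes over `Spec A`, with flat source, has a
model over a finitely generated subring of `A`. -/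
theorem exists_model (A : CommRingCat.{u}) {X Y : Scheme.{u}} (f : X ⟶ Y) (h : Y ⟶ (fgCone A).pt)
    [IsProper f] [LocallyOfFinitePresentation h] [QuasiCompact h] [QuasiSeparated h] [Flat (f ≫ h)]
    [LocallyOfFinitePresentation (f ≫ h)] :
    ∃ (k : (FGSub A)ᵒᵖ) (X₀ Y₀ : Scheme.{u}) (f₀ : X₀ ⟶ Y₀) (h₀ : Y₀ ⟶ (fgSchemes A).obj k)
      (qX : X ⟶ X₀) (qY : Y ⟶ Y₀), IsProper f₀ ∧ LocallyOfFinitePresentation h₀ ∧ Flat (f₀ ≫ h₀) ∧ QuasiCompact h₀ ∧
        IsPullback qX f f₀ qY ∧ IsPullback qY h h₀ ((fgCone A).π.app k) := by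
  let D := fgSchemes A
  let c := fgCone A
  have hc := isLimitFgCone A
  haveI : ∀ i, IsAffine (D.obj i) := fun i => inferInstanceAs (IsAffine (Spec _))
  obtain ⟨i, X₁, Y₁, u₁, g₁, qX₁, qY₁, _, _, _, _, _, _, hX₁, hY₁⟩ := exists_models (canDescend A) (f ≫ h) h
  obtain ⟨j, φ, Xj, Yj, fj, gj, pX, pY, rX, rY, sY, sX, hrX, hrY⟩ :=
    exists_descend_hom D c hc u₁ g₁ f h qX₁ qY₁ hX₁ hY₁
  haveI : LocallyOfFinitePresentation gj := MorphismProperty.of_isPullback sY inferInstance
  haveI : QuasiCompact gj := MorphismProperty.of_isPullback sY inferInstance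
  haveI : QuasiSeparated gj := MorphismProperty.of_isPullback sY inferInstance
  haveI : LocallyOfFinitePresentation (fj ≫ gj) := MorphismProperty.of_isPullback sX inferInstance
  haveI : QuasiCompact (fj ≫ gj) := MorphismProperty.of_isPullback sX inferInstance
  haveI : QuasiSeparated (fj ≫ gj) := MorphismProperty.of_isPullback sX inferInstance
  haveI : CompactSpace Yj := QuasiCompact.compactSpace_of_compactSpace gj
  haveI : CompactSpace Xj := QuasiCompact.compactSpace_of_compactSpace (fj ≫ gj)
  haveI : QuasiSeparatedSpace Yj := quasiSeparatedSpace_of_quasiSeparated gj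
  haveI : QuasiSeparatedSpace Xj := quasiSeparatedSpace_of_quasiSeparated (fj ≫ gj)
  haveI : QuasiCompact fj := QuasiCompact.of_comp fj gj
  haveI : QuasiSeparated fj := quasiSeparated_of_quasiSeparatedSpace fj
  haveI : LocallyOfFiniteType fj := locallyOfFiniteType_of_comp fj gj
  -- flatness
  obtain ⟨k₂, hk₂⟩ := exists_stage_of_ringDescends @Flat ringDescends_flat
    (fun _ _ _ (_ : IsOpenImmersion _) => inferInstance) D c hc j (fj ≫ gj)
    ((prop_iff_snd_of_isPullback @Flat (hrX.paste_vert hrY)).1 ‹_›)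
  -- properness
  let D' := pullbackDiagram D j gj
  let c' := pullbackCone D j gj c
  let t : D' ⟶ (Functor.const (Over j)).obj Yj :=
    { app := fun k => pullback.snd (D.map k.hom) gj
      naturality := fun k l m => by
        change D'.map m ≫ pullback.snd (D.map l.hom) gj = pullback.snd (D.map k.hom) gj ≫ 𝟙 _
        rw [Category.comp_id]
        exact pullback.lift_snd _ _ _ }
  let τ : c'.pt ⟶ Yj := pullback.snd (c.π.app j) gj
  haveI : ∀ k, CompactSpace (D'.obj k) := fun k =>
    QuasiCompact.compactSpace_of_compactSpace (pullback.fst (D.map k.hom) gj)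
  haveI : ∀ k, QuasiSeparatedSpace (D'.obj k) := fun k =>
    quasiSeparatedSpace_of_quasiSeparated (pullback.fst (D.map k.hom) gj)
  haveI : IsProper (pullback.snd fj τ) := by
    refine Groth.Pur21Iso.prop_snd_comp @IsProper fj rY hrY.flip.isoPullback.inv τ ?_ ((prop_iff_snd_of_isPullback @IsProper hrX).1 ‹_›)
    exact hrY.flip.isoPullback_inv_snd
  obtain ⟨k₃, hk₃⟩ := exists_isProper_bcTrans (isLimitPullbackCone D j gj hc) t τ
    (fun k => pullback.lift_snd _ _ _) fj
  -- a common stage
  let l : Over j := IsCofiltered.min k₂ k₃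
  let a₂ : l ⟶ k₂ := IsCofiltered.minToLeft _ _
  let a₃ : l ⟶ k₃ := IsCofiltered.minToRight _ _
  let ψ := D.map l.hom
  have hψ : ∀ {k : Over j} (a : l ⟶ k), D.map a.left ≫ D.map k.hom = ψ := fun a => by
    rw [← D.map_comp, Over.w]
  let p := pullback.fst gj ψ
  let h₀ := pullback.snd gj ψ
  let f₀ := pullback.snd fj p
  have hbig : IsPullback (pullback.fst fj p) (f₀ ≫ h₀) (fj ≫ gj) ψ :=
    (IsPullback.of_hasPullback fj p).paste_vert (IsPullback.of_hasPullback gj ψ)
  have e₀ : rY ≫ gj = (h ≫ c.π.app l.left) ≫ ψ := by rw [hrY.w, Category.assoc, c.w]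
  let qY : Y ⟶ pullback gj ψ := pullback.lift rY (h ≫ c.π.app l.left) e₀
  have hqY : IsPullback qY h h₀ (c.π.app l.left) :=
    IsPullback.of_right (by rw [pullback.lift_fst, c.w]; exact hrY) (pullback.lift_snd _ _ _)
      (IsPullback.of_hasPullback gj ψ)
  let qX : X ⟶ pullback fj p := pullback.lift rX (f ≫ qY) (by rw [Category.assoc, pullback.lift_fst, hrX.w])
  have hqX : IsPullback qX f f₀ qY :=
    IsPullback.of_right (by rw [pullback.lift_fst, pullback.lift_fst]; exact hrX) (pullback.lift_snd _ _ _)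
      (IsPullback.of_hasPullback fj p)
  refine ⟨l.left, _, _, f₀, h₀, qX, qY, ?_, ?_, ?_, inferInstance, hqX, hqY⟩
  · refine Groth.Pur21Iso.prop_snd_comp @IsProper fj (t.app k₃)
      (pullback.lift (h₀ ≫ D.map a₃.left) p ((Category.assoc _ _ _).trans ((congrArg (h₀ ≫ ·) (hψ a₃)).trans pullback.condition.symm))) p ?_ hk₃
    exact pullback.lift_snd _ _ _
  · infer_instance
  · exact (prop_iff_snd_of_isPullback @Flat hbig).2 (Groth.Pur21Iso.prop_snd_comp @Flat (fj ≫ gj) _ (D.map a₂.left) ψ (hψ a₂) hk₂)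

end Groth.Contraction
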