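import Groth.Agent.Contraction.Chart
import Groth.Agent.Contraction.Model
import Groth.Agent.HensPair.SteinNormalPoint

/-!
# `O_Y = f_* O_X` near a fibre, universally
-/

universe u

open CategoryTheory Limits AlgebraicGeometry TopologicalSpace Opposite
open scoped TensorProduct

set_option backward.isDefEq.respectTransparency.types false

namespace Groth.Contraction

open Groth.CohBase

variable {X Y S : Scheme.{u}}

theorem isIso_app_iff (f : X ⟶ Y) (W : Y.Opens) :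
    IsIso (f.app W) ↔ Function.Bijective (f.app W) := ConcreteCategory.isIso_iff_bijective _

/-- Isomorphy of sections over all opens below `O` may be checked locally. -/
theorem isIso_app_of_local_on (f : X ⟶ Y) [QuasiCompact f] [QuasiSeparated f] (O : Y.Opens)
    (h : ∀ y ∈ O, ∃ U : Y.Opens, IsAffineOpen U ∧ y ∈ U ∧ U ≤ O ∧ IsIso (f.app U)) {W : Y.Opens}
    (hW : W ≤ O) : IsIso (f.app W) := by
  have hloc : ∀ z : O.toScheme, ∃ U : O.toScheme.Opens, z ∈ U ∧ ∀ V, V ≤ U → IsIso ((f ∣_ O).app V) := by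
    intro z
    obtain ⟨U, hU, hz, hUO, hiso⟩ := h z.1 z.2
    refine ⟨O.ι ⁻¹ᵁ U, hz, fun V hV => AlgGrp1.isIso_app_restrict f O V ?_⟩
    exact HensPair.isIso_app_of_le f hU ((O.ι.image_mono hV).trans (O.ι.image_preimage_le U))
  have h1 := HensPair.isIso_app_of_local (f ∣_ O) hloc (O.ι ⁻¹ᵁ W)
  rw [morphismRestrict_app] at h1
  have h3 : IsIso (X.presheaf.map
      (eqToHom (image_morphismRestrict_preimage f O (O.ι ⁻¹ᵁ W))).op) := inferInstance
  have h4 := @IsIso.of_isIso_comp_right _ _ _ _ _ _ _ h3 h1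
  have e : O.ι ''ᵁ (O.ι ⁻¹ᵁ W) = W := by
    rw [Scheme.Hom.image_preimage_eq_opensRange_inf, Scheme.Opens.opensRange_ι, inf_eq_right]
    exact hW
  have key : ∀ V V' : Y.Opens, V = V' → IsIso (f.app V) → IsIso (f.app V') :=
    fun V V' he hi => by subst he; exact hi
  exact key _ _ e h4

/-- A morphism followed by a monomorphism inherits properties stable under base change. -/
theorem prop_of_comp_mono (P : MorphismProperty Scheme.{u}) [P.IsStableUnderBaseChange]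
    {U V W : Scheme.{u}} (j : U ⟶ V) (ρ : V ⟶ W) [Mono ρ] (h : P (j ≫ ρ)) : P j :=
  MorphismProperty.of_isPullback (f' := 𝟙 U) (by
    simpa using (IsPullback.of_horiz_isIso (fst := 𝟙 _) (snd := j) (f := j) (g := 𝟙 _)
      ⟨by simp⟩).paste_vert (IsKernelPair.id_of_mono ρ)) h

/-- On an affine open where `O_Y = f_* O_X`, flatness of the source gives that of the target. -/
theorem flat_of_isIso_app (f : X ⟶ Y) (g : Y ⟶ S) [IsProper f] (W : Y.Opens) (hW : IsAffineOpen W)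
    {T : S.Opens} (hT : IsAffineOpen T) (hWT : W ≤ g ⁻¹ᵁ T) (hflat : Flat ((f ⁻¹ᵁ W).ι ≫ f ≫ g))
    (hgood : ∀ y ∈ W, Good f y) (hiso : IsIso (f.app W)) : Flat (W.ι ≫ g) := by
  have hWρ : W ≤ g ⁻¹ᵁ hT.fromSpec.opensRange := by rwa [hT.opensRange_fromSpec]
  let A : Type u := Γ(S, T)
  let j : (W : Scheme.{u}) ⟶ Spec (CommRingCat.of A) := chartHom g hT.fromSpec W hWρ
  letI : (W : Scheme.{u}).Over (Spec (CommRingCat.of A)) := ⟨j⟩
  letI : ((f ⁻¹ᵁ W : X.Opens) : Scheme.{u}).Over (Spec (CommRingCat.of A)) := ⟨(f ∣_ W) ≫ j⟩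
  have : IsAffine W.toScheme := hW
  have hb : Function.Bijective (gammaMap (A := A) (f ∣_ W) rfl) :=
    (app_bijective_iff_restrict f W).1 ((isIso_app_iff f W).1 hiso)
  haveI := chart_flat f g hT.fromSpec W hWρ hW hflat hgood
  have hfl : Module.Flat A (secA A (Coh.structureModule W.toScheme) ⊤) :=
    Module.Flat.of_linearEquiv (LinearEquiv.ofBijective _ hb)
  have htop : (toSec A (⊤ : W.toScheme.Opens)).Flat := by
    let : Algebra A Γ(W.toScheme, ⊤) := (toSec A (⊤ : W.toScheme.Opens)).toAlgebra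
    exact RingHom.flat_algebraMap_iff.2 (Module.Flat.of_linearEquiv
      (show Γ(W.toScheme, ⊤) ≃ₗ[A] secA A (Coh.structureModule W.toScheme) ⊤ from
        { toFun := fun s => s
          invFun := fun s => s
          map_add' := fun _ _ => rfl
          map_smul' := fun _ _ => rfl }))
  haveI : Flat j := by
    rw [HasRingHomProperty.iff_of_isAffine (P := @Flat)]
    have e : j.appTop = (Scheme.ΓSpecIso (CommRingCat.of A)).hom ≫
        CommRingCat.ofHom (toSec A (⊤ : W.toScheme.Opens)) := by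
      ext a
      simp only [CommRingCat.comp_apply, CommRingCat.hom_ofHom]
      change _ = (j.appTop ≫ W.toScheme.presheaf.map (homOfLE le_rfl).op)
        ((Scheme.ΓSpecIso (CommRingCat.of A)).inv ((Scheme.ΓSpecIso (CommRingCat.of A)).hom a))
      rw [show (homOfLE (le_rfl : (⊤ : W.toScheme.Opens) ≤ ⊤)).op = 𝟙 _ from rfl,
        W.toScheme.presheaf.map_id, Category.comp_id]
      congr 1
      exact (congr($((Scheme.ΓSpecIso (CommRingCat.of A)).hom_inv_id) a)).symm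
    rw [e, CommRingCat.hom_comp]
    exact RingHom.Flat.comp
      (RingHom.Flat.of_bijective (ConcreteCategory.bijective_of_isIso _)) htop
  rw [← chartHom_fac g hT.fromSpec W hWρ]
  infer_instance

/-- Where `O_Y = f_* O_X` with flat source and no `R¹`, the same holds after every base change. -/
theorem isIso_app_baseChange_univ (f : X ⟶ Y) (g : Y ⟶ S) [IsProper f] (V : Y.Opens)
    (hgood : ∀ y ∈ V, Good f y) (hflat : Flat ((f ⁻¹ᵁ V).ι ≫ f ≫ g))
    (hiso : ∀ U : Y.Opens, U ≤ V → IsIso (f.app U)) {S' X' Y' : Scheme.{u}} {b : S' ⟶ S}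
    {g' : Y' ⟶ S'} {f' : X' ⟶ Y'} {πY : Y' ⟶ Y} {πX : X' ⟶ X} (hY : IsPullback πY g' g b)
    (hX : IsPullback πX f' f πY) {W : Y'.Opens} (hW : W ≤ πY ⁻¹ᵁ V) : IsIso (f'.app W) := by
  haveI : IsProper f' := MorphismProperty.of_isPullback hX ‹IsProper f›
  refine isIso_app_of_local_on f' (πY ⁻¹ᵁ V) (fun y' hy' => ?_) hW
  obtain ⟨T, hT, hsT, -⟩ :=
    exists_isAffineOpen_mem_and_subset (U := (⊤ : S.Opens)) (x := g (πY y')) trivial
  obtain ⟨U, hU, hyU, hUV⟩ := exists_isAffineOpen_mem_and_subset (U := V ⊓ g ⁻¹ᵁ T) (x := πY y')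
    ⟨hy', hsT⟩
  obtain ⟨T', hT', hsT', hT'T⟩ := exists_isAffineOpen_mem_and_subset (U := b ⁻¹ᵁ T) (x := g' y')
    (by
      show b (g' y') ∈ T
      rw [← Scheme.Hom.comp_apply, ← hY.w]
      exact hsT)
  let A : Type u := Γ(S, T)
  let A' : Type u := Γ(S', T')
  letI : Algebra A A' := (b.appLE T T' hT'T).hom.toAlgebra
  have hUρ : U ≤ g ⁻¹ᵁ hT.fromSpec.opensRange := by
    rw [hT.opensRange_fromSpec]; exact fun z hz => (hUV hz).2
  have hUfl : Flat ((f ⁻¹ᵁ U).ι ≫ f ≫ g) := by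
    rw [← X.homOfLE_ι (f.preimage_mono (fun z hz => (hUV hz).1)), Category.assoc]
    infer_instance
  have hUg : ∀ y ∈ U, Good f y := fun y hy => hgood y (hUV hy).1
  let W' := πY ⁻¹ᵁ U ⊓ g' ⁻¹ᵁ hT'.fromSpec.opensRange
  have hτ : hT'.fromSpec ≫ b = Spec.map (CommRingCat.ofHom (algebraMap A A')) ≫ hT.fromSpec :=
    (IsAffineOpen.SpecMap_appLE_fromSpec b hT hT' hT'T).symm
  have hW'aff : IsAffineOpen W' := by
    let gY : (W' : Scheme.{u}) ⟶ (U : Scheme.{u}) := πY.resLE U W' inf_le_left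
    let gA := IsOpenImmersion.lift hT'.fromSpec (W'.ι ≫ g') (by rintro _ ⟨z, rfl⟩; exact z.2.2)
    have hsq := isPullback_opens hY hT.fromSpec hT'.fromSpec _ hτ U _
      (chartHom_fac g hT.fromSpec U hUρ) W' (fun z => Iff.rfl) gY (Scheme.Hom.resLE_comp_ι _ _) gA
      (IsOpenImmersion.lift_fac _ _ _)
    haveI : IsAffine U.toScheme := hU
    haveI : IsAffineHom gA := MorphismProperty.of_isPullback hsq (isAffineHom_of_isAffine _)
    exact isAffine_of_isAffineHom gA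
  refine ⟨W', hW'aff, ⟨hyU, by rw [hT'.opensRange_fromSpec]; exact hsT'⟩,
    fun z hz => (hUV hz.1).1, ?_⟩
  rw [isIso_app_iff,
    app_bijective_iff f g hT.fromSpec U hUρ g' f' hY hX hT'.fromSpec hτ hU hUfl hUg]
  have hb : Function.Bijective (chartMap f g hT.fromSpec U hUρ) :=
    (app_bijective_iff_restrict f U).1 ((isIso_app_iff f U).1 (hiso U fun z hz => (hUV hz).1))
  exact ((LinearEquiv.ofBijective _ hb).rTensor A').bijective

/-- `app_bijective_iff` for a ring homomorphism. -/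
theorem app_bijective_iff_hom {A A' : Type u} [CommRing A] [CommRing A'] (φ : A →+* A')
    {S' X' Y' : Scheme.{u}} (f : X ⟶ Y) (g : Y ⟶ S) [IsProper f]
    (ρ : Spec (CommRingCat.of A) ⟶ S) [IsOpenImmersion ρ] (W : Y.Opens)
    (hWρ : W ≤ g ⁻¹ᵁ ρ.opensRange) (g' : Y' ⟶ S') (f' : X' ⟶ Y') {πY : Y' ⟶ Y} {πX : X' ⟶ X}
    {b : S' ⟶ S} (hY : IsPullback πY g' g b) (hX : IsPullback πX f' f πY)
    (τ : Spec (CommRingCat.of A') ⟶ S') [IsOpenImmersion τ]
    (hτ : τ ≫ b = Spec.map (CommRingCat.ofHom φ) ≫ ρ) (hW : IsAffineOpen W)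
    (hflat : Flat ((f ⁻¹ᵁ W).ι ≫ f ≫ g)) (hgood : ∀ y ∈ W, Good f y) :
    Function.Bijective (f'.app (πY ⁻¹ᵁ W ⊓ g' ⁻¹ᵁ τ.opensRange)) ↔
      (letI : Algebra A A' := φ.toAlgebra
      Function.Bijective ((chartMap f g ρ W hWρ).rTensor A')) := by
  letI : Algebra A A' := φ.toAlgebra
  exact app_bijective_iff f g ρ W hWρ g' f' hY hX τ hτ hW hflat hgood

/-- The Noetherian step: a chart of a model whose fibre is bijective contains a neighbourhood with
bijective sections map. -/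
theorem exists_open_of_fibre {A : Type u} [CommRing A] [IsNoetherianRing A] (f : X ⟶ Y)
    (g : Y ⟶ Spec (CommRingCat.of A)) [IsProper f] [LocallyOfFiniteType g] [Flat (f ≫ g)]
    {W : Y.Opens} (hW : IsAffineOpen W) (hgood : ∀ z ∈ W, Good f z) {y : Y} (hy : y ∈ W)
    (K : Type u) [Field K] (σ : A →+* K)
    (hσ : RingHom.ker σ = (g y : PrimeSpectrum A).asIdeal)
    (hK : letI : Algebra A K := σ.toAlgebra
      Function.Bijective ((chartMap f g (𝟙 (Spec (CommRingCat.of A))) W (fun z _ => ⟨g z, rfl⟩)).rTensor K)) :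
    ∃ W₁ : Y.Opens, IsAffineOpen W₁ ∧ y ∈ W₁ ∧ W₁ ≤ W ∧ IsIso (f.app W₁) := by
  letI : Algebra A K := σ.toAlgebra
  let j : (W : Scheme.{u}) ⟶ Spec (CommRingCat.of A) :=
    chartHom g (𝟙 (Spec (CommRingCat.of A))) W (fun z _ => ⟨g z, rfl⟩)
  have hj : j = W.ι ≫ g := (Category.comp_id j).symm.trans (chartHom_fac g (𝟙 _) W (fun z _ => ⟨g z, rfl⟩))
  letI : (W : Scheme.{u}).Over (Spec (CommRingCat.of A)) := ⟨j⟩
  letI : ((f ⁻¹ᵁ W : X.Opens) : Scheme.{u}).Over (Spec (CommRingCat.of A)) := ⟨(f ∣_ W) ≫ j⟩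
  have : IsAffine W.toScheme := hW
  haveI : IsProper (f ∣_ W) := MorphismProperty.of_isPullback
    (isPullback_morphismRestrict f W).flip ‹IsProper f›
  haveI : LocallyOfFiniteType ((W : Scheme.{u}) ↘ Spec (CommRingCat.of A)) := by
    show LocallyOfFiniteType j
    rw [hj]; infer_instance
  have hflat : Flat ((f ⁻¹ᵁ W).ι ≫ f ≫ g) := inferInstance
  obtain ⟨_, _, hfl, hH⟩ := chart_hyps f g (𝟙 _) W (fun z _ => ⟨g z, rfl⟩) hW hflat hgood
  let p : Ideal A := (g y : PrimeSpectrum A).asIdeal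
  have hp : ((((W : Scheme.{u}) ↘ Spec (CommRingCat.of A)) ⟨y, hy⟩ : PrimeSpectrum A)).asIdeal = p := by
    show (j ⟨y, hy⟩ : PrimeSpectrum A).asIdeal = p
    rw [hj]
    rfl
  letI : Algebra p.ResidueField K :=
    (Ideal.ResidueField.lift p σ hσ.ge (fun a ha => isUnit_iff_ne_zero.2 fun h =>
      ha (hσ.le (RingHom.mem_ker.2 h)))).toAlgebra
  haveI : IsScalarTower A p.ResidueField K := IsScalarTower.of_algebraMap_eq fun a =>
    (Ideal.ResidueField.lift_algebraMap p σ _ _ a).symm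
  obtain ⟨h, hyh, hb⟩ :=
    exists_basicOpen_bijective (f ∣_ W) rfl hfl hH ⟨y, hy⟩ p hp K hK
  refine ⟨W.ι ''ᵁ W.toScheme.basicOpen h, ?_, ⟨⟨y, hy⟩, hyh, rfl⟩, ?_, ?_⟩
  · exact ((isAffineOpen_top W.toScheme).basicOpen h).image_of_isOpenImmersion W.ι
  · exact (W.ι.image_le_opensRange _).trans_eq W.opensRange_ι
  · have h1 : IsIso ((f ∣_ W).app (W.toScheme.basicOpen h)) := (isIso_app_iff _ _).2 hb
    rw [morphismRestrict_app] at h1
    have h3 : IsIso (X.presheaf.map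
        (eqToHom (image_morphismRestrict_preimage f W (W.toScheme.basicOpen h))).op) := inferInstance
    exact @IsIso.of_isIso_comp_right _ _ _ _ _ _ _ h3 h1

/-- Near a point over `s`, isomorphy on the fibre over `s` spreads out. -/
theorem exists_isIso_nhd (f : X ⟶ Y) (g : Y ⟶ S) [IsProper f] [LocallyOfFinitePresentation g]
    [LocallyOfFinitePresentation (f ≫ g)] (s : S) (O : Y.Opens)
    (hgood : ∀ y ∈ O, Good f y) (hflat : Flat ((f ⁻¹ᵁ O).ι ≫ f ≫ g))
    (hiso : ∀ U : (g.fiber s).Opens, U ≤ g.fiberι s ⁻¹ᵁ O → IsIso ((MoreMor.fiberMap f g s).app U))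
    (y : Y) (hy : y ∈ O) (hys : g y = s) :
    ∃ U : Y.Opens, IsAffineOpen U ∧ y ∈ U ∧ U ≤ O ∧ IsIso (f.app U) ∧ Flat (U.ι ≫ g) := by
  obtain ⟨T, hT, hsT, -⟩ :=
    exists_isAffineOpen_mem_and_subset (U := (⊤ : S.Opens)) (x := s) trivial
  obtain ⟨U₁, hU₁, hyU₁, hU₁O⟩ := exists_isAffineOpen_mem_and_subset (U := O ⊓ g ⁻¹ᵁ T) (x := y)
    ⟨hy, show g y ∈ T by rw [hys]; exact hsT⟩
  have hUρ : U₁ ≤ g ⁻¹ᵁ hT.fromSpec.opensRange := by
    rw [hT.opensRange_fromSpec]; exact fun z hz => (hU₁O hz).2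
  let A : CommRingCat.{u} := Γ(S, T)
  let h₁ : (U₁ : Scheme.{u}) ⟶ (SpectralTopology.fgCone A).pt := chartHom g hT.fromSpec U₁ hUρ
  have hh₁ : h₁ ≫ hT.fromSpec = U₁.ι ≫ g := chartHom_fac g hT.fromSpec U₁ hUρ
  let f₁ := f ∣_ U₁
  haveI : IsProper f₁ := MorphismProperty.of_isPullback
    (isPullback_morphismRestrict f U₁).flip ‹IsProper f›
  haveI : IsAffine U₁.toScheme := hU₁
  haveI : IsAffine (SpectralTopology.fgCone A).pt := inferInstanceAs (IsAffine (Spec _))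
  haveI : Mono (show (SpectralTopology.fgCone A).pt ⟶ S from hT.fromSpec) :=
    inferInstanceAs (Mono hT.fromSpec)
  haveI : LocallyOfFinitePresentation h₁ :=
    prop_of_comp_mono @LocallyOfFinitePresentation h₁ hT.fromSpec (by rw [hh₁]; infer_instance)
  have hf₁ : (f₁ ≫ h₁) ≫ hT.fromSpec = (f ⁻¹ᵁ U₁).ι ≫ f ≫ g := by
    rw [Category.assoc, hh₁, morphismRestrict_ι_assoc]
  have hU₁fl : Flat ((f ⁻¹ᵁ U₁).ι ≫ f ≫ g) := by
    rw [← X.homOfLE_ι (f.preimage_mono (fun z hz => (hU₁O hz).1)), Category.assoc]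
    infer_instance
  haveI : Flat (f₁ ≫ h₁) := prop_of_comp_mono @Flat _ hT.fromSpec (by rw [hf₁]; exact hU₁fl)
  haveI : LocallyOfFinitePresentation (f₁ ≫ h₁) :=
    prop_of_comp_mono @LocallyOfFinitePresentation _ hT.fromSpec (by rw [hf₁]; infer_instance)
  obtain ⟨k, X₀, Y₀, f₀, h₀, qX, qY, hf₀p, hh₀, hfl₀, hqc₀, hsqX, hsqY⟩ := exists_model A f₁ h₁
  let A₀ : Type u := k.unop.1
  let h₀' : Y₀ ⟶ Spec (CommRingCat.of A₀) := h₀
  haveI : LocallyOfFinitePresentation h₀' := hh₀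
  haveI : Flat (f₀ ≫ h₀') := hfl₀
  haveI : IsNoetherianRing A₀ :=
    have : Algebra.FiniteType ℤ k.unop.1 := k.unop.1.fg_iff_finiteType.1 k.unop.2
    Algebra.FiniteType.isNoetherianRing ℤ _
  let y₁ : (U₁ : Scheme.{u}) := ⟨y, hyU₁⟩
  have hg1 : ∀ z, Good f₁ z := fun z =>
    (good_baseChange_iff f (isPullback_morphismRestrict f U₁).flip z).2 (hgood _ (hU₁O z.2).1)
  have hy₀ : Good f₀ (qY y₁) := (good_baseChange_iff f₀ hsqX y₁).1 (hg1 y₁)
  obtain ⟨W₀, hW₀, hyW₀, hW₀g⟩ :=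
    exists_isAffineOpen_mem_and_subset (U := ⟨_, isOpen_good f₀⟩) (x := qY y₁) hy₀
  -- the fibre as a base change of the model
  let O' : (g.fiber s).Opens := g.fiberι s ⁻¹ᵁ U₁
  let f' := MoreMor.fiberMap f g s
  let ev : A ⟶ S.residueField s := S.evaluation T s hsT
  have hev : Spec.map ev ≫ hT.fromSpec = S.fromSpecResidueField s :=
    CohBase.SpecMap_evaluation_fromSpec hT s hsT
  let gY : (O' : Scheme.{u}) ⟶ (U₁ : Scheme.{u}) := (g.fiberι s).resLE U₁ O' le_rfl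
  let gA : (O' : Scheme.{u}) ⟶ Spec (S.residueField s) := O'.ι ≫ g.fiberToSpecResidueField s
  have hsqO : IsPullback gY gA h₁ (Spec.map ev) :=
    isPullback_opens (IsPullback.of_hasPullback g (S.fromSpecResidueField s)) hT.fromSpec (𝟙 _)
      (Spec.map ev) (by rw [Category.id_comp, hev]) U₁ h₁ hh₁ O'
      (fun z => ⟨fun h => ⟨h, ⟨_, rfl⟩⟩, fun h => h.1⟩) gY (Scheme.Hom.resLE_comp_ι _ _) gA
      (Category.comp_id _)
  have hfib : IsPullback ((f ≫ g).fiberι s) f' f (g.fiberι s) := by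
    refine IsPullback.of_bot ?_ (pullback.lift_fst _ _ _).symm
      (IsPullback.of_hasPullback g (S.fromSpecResidueField s))
    rw [show MoreMor.fiberMap f g s ≫ pullback.snd g (S.fromSpecResidueField s) =
      pullback.snd (f ≫ g) (S.fromSpecResidueField s) from pullback.lift_snd _ _ _]
    exact IsPullback.of_hasPullback (f ≫ g) (S.fromSpecResidueField s)
  let gX : ((f' ⁻¹ᵁ O' : ((f ≫ g).fiber s).Opens) : Scheme.{u}) ⟶ (f ⁻¹ᵁ U₁ : X.Opens) :=
    ((f ≫ g).fiberι s).resLE (f ⁻¹ᵁ U₁) (f' ⁻¹ᵁ O') (fun z hz => by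
      show f ((f ≫ g).fiberι s z) ∈ U₁
      rw [← Scheme.Hom.comp_apply, hfib.w]
      exact hz)
  have hsqXO : IsPullback gX (f' ∣_ O') f₁ gY := by
    refine IsPullback.of_right ?_ ?_ (isPullback_morphismRestrict f U₁).flip
    · rw [Scheme.Hom.resLE_comp_ι, Scheme.Hom.resLE_comp_ι]
      exact (isPullback_morphismRestrict f' O').flip.paste_horiz hfib
    · rw [← cancel_mono U₁.ι, Category.assoc, morphismRestrict_ι, Scheme.Hom.resLE_comp_ι_assoc,
        hfib.w, Category.assoc, Scheme.Hom.resLE_comp_ι, morphismRestrict_ι_assoc]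
  let σ : A₀ →+* S.residueField s := ev.hom.comp k.unop.1.val.toRingHom
  have hσmap : Spec.map (CommRingCat.ofHom σ) = Spec.map ev ≫ (SpectralTopology.fgCone A).π.app k :=
    Spec.map_comp (CommRingCat.ofHom k.unop.1.val.toRingHom) ev
  have hsqY₀ : IsPullback (gY ≫ qY) gA h₀' (Spec.map (CommRingCat.ofHom σ)) := by
    have := hsqO.paste_horiz hsqY
    exact hσmap.symm ▸ this
  have hK : letI : Algebra A₀ (S.residueField s) := σ.toAlgebra
      Function.Bijective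
      ((chartMap f₀ h₀' (𝟙 (Spec (CommRingCat.of A₀))) W₀ (fun z _ => ⟨h₀' z, rfl⟩)).rTensor (S.residueField s)) := by
    refine (app_bijective_iff_hom σ f₀ h₀' (𝟙 (Spec (CommRingCat.of A₀))) W₀
      (fun z _ => ⟨h₀' z, rfl⟩) gA (f' ∣_ O') hsqY₀ (hsqXO.paste_horiz hsqX) (𝟙 (Spec (S.residueField s)))
      ((Category.id_comp _).trans (Category.comp_id _).symm) hW₀ inferInstance fun z hz => hW₀g hz).1 ?_
    rw [← isIso_app_iff]
    refine AlgGrp1.isIso_app_restrict f' O' _ (hiso _ ?_)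
    exact (O'.ι.image_le_opensRange _).trans_eq O'.opensRange_ι |>.trans fun z hz => (hU₁O hz).1
  have hσ : RingHom.ker σ = (h₀' (qY y₁) : PrimeSpectrum A₀).asIdeal := by
    have e1 : h₁ y₁ = Spec.map ev (IsLocalRing.closedPoint (S.residueField s)) := by
      refine hT.fromSpec.isEmbedding.injective ?_
      refine (congr($hh₁ y₁)).trans (hys.trans ?_)
      exact (Scheme.fromSpecResidueField_apply s _).symm.trans (congr($(hev.symm) _))
    have e2 : h₀' (qY y₁) = Spec.map (CommRingCat.ofHom σ) (IsLocalRing.closedPoint (S.residueField s)) := by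
      refine Eq.trans ?_ (congr($(hσmap) _)).symm
      exact (congr($(hsqY.w) y₁)).trans (congrArg ((SpectralTopology.fgCone A).π.app k) e1)
    rw [e2]
    change _ = (IsLocalRing.maximalIdeal (S.residueField s)).comap σ
    rw [IsLocalRing.maximalIdeal_eq_bot]
    rfl
  obtain ⟨W₁, hW₁, hyW₁, hW₁W₀, hW₁iso⟩ :=
    exists_open_of_fibre f₀ h₀' hW₀ (fun z hz => hW₀g hz) hyW₀ (S.residueField s) σ hσ hK
  haveI : IsAffineHom qY := by
    haveI : IsAffineHom ((SpectralTopology.fgCone A).π.app k) :=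
      inferInstanceAs (IsAffineHom (Spec.map _))
    exact MorphismProperty.of_isPullback hsqY.flip inferInstance
  have hiso₁ : IsIso (f₁.app (qY ⁻¹ᵁ W₁)) := by
    refine isIso_app_baseChange_univ f₀ h₀' W₁ (fun z hz => hW₀g (hW₁W₀ hz)) inferInstance
      (fun U hU => HensPair.isIso_app_of_le f₀ hW₁ hU) hsqY hsqX le_rfl
  let U := U₁.ι ''ᵁ (qY ⁻¹ᵁ W₁)
  have hUle : U ≤ U₁ := (U₁.ι.image_le_opensRange _).trans_eq U₁.opensRange_ι
  have hUaff : IsAffineOpen U := (hW₁.preimage qY).image_of_isOpenImmersion U₁.ι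
  have hUiso : IsIso (f.app U) := by
    rw [morphismRestrict_app] at hiso₁
    have h3 : IsIso (X.presheaf.map
        (eqToHom (image_morphismRestrict_preimage f U₁ (qY ⁻¹ᵁ W₁))).op) := inferInstance
    exact @IsIso.of_isIso_comp_right _ _ _ _ _ _ _ h3 hiso₁
  refine ⟨U, hUaff, ⟨y₁, hyW₁, rfl⟩, fun z hz => (hU₁O (hUle hz)).1, hUiso, ?_⟩
  refine flat_of_isIso_app f g U hUaff hT (fun z hz => (hU₁O (hUle hz)).2) ?_
    (fun z hz => hgood z (hU₁O (hUle hz)).1) hUiso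
  rw [← X.homOfLE_ι (f.preimage_mono hUle), Category.assoc]
  infer_instance

/-- `O_Y = f_* O_X` and flatness of `Y` near a fibre where they hold. -/
theorem exists_nhd (f : X ⟶ Y) (g : Y ⟶ S) [IsProper f] [LocallyOfFinitePresentation g]
    [LocallyOfFinitePresentation (f ≫ g)] (s : S) (O : Y.Opens) (hsO : g ⁻¹' {s} ⊆ (O : Set Y))
    (hgood : ∀ y ∈ O, Good f y) (hflat : Flat ((f ⁻¹ᵁ O).ι ≫ f ≫ g))
    (hiso : ∀ U : (g.fiber s).Opens, IsIso ((MoreMor.fiberMap f g s).app U)) :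
    ∃ V : Y.Opens, g ⁻¹' {s} ⊆ (V : Set Y) ∧ V ≤ O ∧ Flat (V.ι ≫ g) ∧
      ∀ U : Y.Opens, U ≤ V → IsIso (f.app U) := by
  have key := fun y : {y : Y // g y = s} =>
    exists_isIso_nhd f g s O hgood hflat (fun U _ => hiso U) y.1 (hsO y.2) y.2
  choose U hUa hyU hUO hUiso hUfl using key
  refine ⟨⨆ y, U y, fun y hy => Opens.mem_iSup.2 ⟨⟨y, hy⟩, hyU ⟨y, hy⟩⟩,
    iSup_le hUO, ?_, fun W hW => ?_⟩
  · refine IsZariskiLocalAtSource.of_iSup_eq_top (fun y => (⨆ y, U y).ι ⁻¹ᵁ U y) ?_ fun y => ?_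
    · refine eq_top_iff.2 fun z _ => ?_
      obtain ⟨i, hi⟩ := Opens.mem_iSup.1 z.2
      exact Opens.mem_iSup.2 ⟨i, hi⟩
    · let i : ((⨆ y, U y).ι ⁻¹ᵁ U y : Scheme.{u}) ⟶ (U y : Scheme.{u}) :=
        (⨆ y, U y).ι.resLE (U y) _ le_rfl
      have hi : i ≫ (U y).ι ≫ g = ((⨆ y, U y).ι ⁻¹ᵁ U y).ι ≫ (⨆ y, U y).ι ≫ g := by
        rw [Scheme.Hom.resLE_comp_ι_assoc]
      haveI := hUfl y
      rw [← hi]
      infer_instance
  · refine isIso_app_of_local_on f (⨆ y, U y) (fun y hy => ?_) hW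
    obtain ⟨i, hi⟩ := Opens.mem_iSup.1 hy
    exact ⟨U i, hUa i, hi, le_iSup U i, hUiso i⟩

end Groth.Contraction
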