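import Groth.Agent.Contraction.Main
import Groth.Agent.CMMor.Locus
import Groth.Agent.FlatMor2.FibCrit.Fibrewise

/-!
# The hypotheses near a fibre
-/

universe u

open CategoryTheory Limits AlgebraicGeometry TopologicalSpace Opposite

set_option backward.isDefEq.respectTransparency.types false

namespace Groth.Contraction

variable {X Y S : Scheme.{u}} (f : X ⟶ Y) (g : Y ⟶ S) [IsProper f]

/-- The hypotheses on the morphism of fibres make the points over `s` good. -/
theorem good_of_fiberMap (s : S)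
    (hdim : ∀ y' : ↥(g.fiber s), topologicalKrullDim ↥((MoreMor.fiberMap f g s).fiber y') ≤ (1 : ℕ))
    (hR : ∀ U : (g.fiber s).Opens, IsAffineOpen U → Subsingleton (Coh.HHon ((f ≫ g).fiber s)
      (Coh.structureModule ((f ≫ g).fiber s)) (MoreMor.fiberMap f g s ⁻¹ᵁ U) 1))
    (y : Y) (hy : g y = s) : Good f y := by
  have hsq := FlatMor2.FibCrit.isPullback_fiberMap f g s
  haveI : IsProper (MoreMor.fiberMap f g s) := MorphismProperty.of_isPullback hsq ‹IsProper f›
  obtain ⟨y', rfl⟩ : y ∈ Set.range (g.fiberι s) := by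
    rw [Scheme.Hom.range_fiberι]; exact hy
  exact (good_baseChange_iff f hsq y').1 (good_of_hhon _ hdim hR y')

/-- An open around the fibre over which all points are good and the source is flat over the base. -/
theorem exists_good_flat_open [LocallyOfFinitePresentation (f ≫ g)] (s : S)
    (hflat : ∀ x : X, g (f x) = s → ((f ≫ g).stalkMap x).hom.Flat)
    (hgood : ∀ y : Y, g y = s → Good f y) :
    ∃ O : Y.Opens, g ⁻¹' {s} ⊆ (O : Set Y) ∧ (∀ y ∈ O, Good f y) ∧ Flat ((f ⁻¹ᵁ O).ι ≫ f ≫ g) := by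
  let N : Set X := {x : X | ((f ≫ g).stalkMap x).hom.Flat}ᶜ
  have hN : IsClosed N := (CMMor.isOpen_flatAt (f ≫ g)).isClosed_compl
  let O : Y.Opens := ⟨{y | Good f y} ∩ (f '' N)ᶜ,
    (isOpen_good f).inter (f.isClosedMap _ hN).isOpen_compl⟩
  refine ⟨O, fun y hy => ⟨hgood y hy, ?_⟩, fun y hy => hy.1, Flat.of_stalkMap _ fun x => ?_⟩
  · rintro ⟨x, hx, rfl⟩
    exact hx (hflat x hy)
  · have hx : ((f ≫ g).stalkMap ((f ⁻¹ᵁ O).ι x)).hom.Flat := by
      by_contra h
      exact x.2.2 ⟨_, h, rfl⟩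
    rw [Scheme.Hom.stalkMap_comp]
    exact RingHom.Flat.comp (g := ((f ⁻¹ᵁ O).ι.stalkMap x).hom) hx
      (RingHom.Flat.of_bijective (ConcreteCategory.bijective_of_isIso _))

end Groth.Contraction
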