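import Groth.Agent.Contraction.GammaBC
import Groth.Agent.Contraction.Algebra
import Groth.Agent.HensPair.SteinNormalization
import Groth.Agent.CohFin.ProjFinite

/-!
# Bijectivity of `O(Y) → O(X)` spreads from a fibre
-/

universe u

open CategoryTheory Limits AlgebraicGeometry TopologicalSpace Opposite
open scoped TensorProduct
open Groth.QCohMod (resFun resFun_resFun)

set_option backward.isDefEq.respectTransparency.types false

namespace Groth.Contraction

open Groth.CohBase

section BaseChange

variable {A A' : Type u} [CommRing A] [CommRing A'] [Algebra A A'] {X X' Y Y' : Scheme.{u}}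
  [X.Over (Spec (CommRingCat.of A))] [X'.Over (Spec (CommRingCat.of A'))]
  [Y.Over (Spec (CommRingCat.of A))] [Y'.Over (Spec (CommRingCat.of A'))]
  (f : X ⟶ Y) (hf : f ≫ (Y ↘ Spec (CommRingCat.of A)) = X ↘ Spec (CommRingCat.of A))

include hf in
lemma appTop_toSec (a : A) : f.appTop (toSec A ⊤ a) = toSec A (⊤ : X.Opens) a := by
  have key : ∀ (Z : Scheme.{u}) [Z.Over (Spec (CommRingCat.of A))],
      toSec A (⊤ : Z.Opens) a = (Z ↘ Spec (CommRingCat.of A)).appTop
        ((Scheme.ΓSpecIso (CommRingCat.of A)).inv a) := fun Z _ => by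
    change ((Z ↘ Spec (CommRingCat.of A)).appTop ≫ Z.presheaf.map (homOfLE le_rfl).op) _ = _
    rw [show (homOfLE (le_rfl : (⊤ : Z.Opens) ≤ ⊤)).op = 𝟙 _ from rfl, Z.presheaf.map_id,
      Category.comp_id]
  rw [key Y, key X, ← CommRingCat.comp_apply, ← Scheme.Hom.comp_appTop, hf]

/-- The map on global functions, linearly over the base ring. -/
noncomputable def gammaMap :
    secA A (Coh.structureModule Y) ⊤ →ₗ[A] secA A (Coh.structureModule X) ⊤ where
  toFun s := f.appTop (show Γ(Y, ⊤) from s)
  map_add' s t := map_add f.appTop.hom (show Γ(Y, ⊤) from s) (show Γ(Y, ⊤) from t)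
  map_smul' a s := by
    exact (map_mul f.appTop.hom (toSec A ⊤ a) (show Γ(Y, ⊤) from s)).trans
      (congrArg (· * f.appTop.hom (show Γ(Y, ⊤) from s)) (appTop_toSec f hf a))

variable {gX : X' ⟶ X} {gY : Y' ⟶ Y} (hsqX : IsBC (A := A) (A' := A') gX)
  (hsqY : IsBC (A := A) (A' := A') gY) (f' : X' ⟶ Y')
  (hf' : f' ≫ (Y' ↘ Spec (CommRingCat.of A')) = X' ↘ Spec (CommRingCat.of A'))
  (hw : gX ≫ f = f' ≫ gY)

include hf' hw in
lemma funBC_gammaMap (z : secA A (Coh.structureModule Y) ⊤ ⊗[A] A') :
    funBC hsqX ⊤ ((gammaMap f hf).rTensor A' z) = f'.appTop (funBC hsqY ⊤ z) := by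
  induction z using TensorProduct.induction_on with
  | zero => simp only [map_zero]; exact (map_zero f'.appTop.hom).symm
  | tmul s b =>
    rw [LinearMap.rTensor_tmul, funBC_tmul, funBC_tmul]
    refine Eq.trans ?_ (map_mul f'.appTop.hom _ _).symm
    refine congrArg₂ (· * ·) ?_ (appTop_toSec f' hf' b).symm
    change gX.appTop (f.appTop (show Γ(Y, ⊤) from s)) = f'.appTop (gY.appTop (show Γ(Y, ⊤) from s))
    rw [← CommRingCat.comp_apply, ← CommRingCat.comp_apply, ← Scheme.Hom.comp_appTop,
      ← Scheme.Hom.comp_appTop, hw]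
  | add p q hp hq =>
    refine Eq.trans ?_ (congrArg f'.appTop (map_add (funBC hsqY ⊤) p q).symm)
    refine Eq.trans ?_ (map_add f'.appTop.hom _ _).symm
    rw [map_add, map_add]
    exact congrArg₂ (· + ·) hp hq

include hsqX hsqY hf' hw in
/-- Bijectivity on global functions after a change of base is that of the tensored map. -/
theorem appTop_bijective_iff [IsAffine Y] [CompactSpace X] [X.IsSeparated]
    (hfl : FlatMod.IsFlatOver (X ↘ Spec (CommRingCat.of A)) (Coh.structureModule X))
    (hH : ∀ p : ℕ, 1 ≤ p → Subsingleton (Coh.HH X (Coh.structureModule X) p)) :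
    Function.Bijective f'.appTop ↔ Function.Bijective ((gammaMap f hf).rTensor A') := by
  have hX := (flat_gamma_and_bijective hsqX hfl hH).2
  have hY := funBC_bijective hsqY (isAffineOpen_top Y)
  have h : (funBC hsqX ⊤ : _ → _) ∘ (gammaMap f hf).rTensor A' = f'.appTop ∘ funBC hsqY ⊤ :=
    funext (funBC_gammaMap f hf hsqX hsqY f' hf' hw)
  exact (Function.Bijective.of_comp_iff f'.appTop hY).symm.trans
    ((Iff.of_eq (congrArg Function.Bijective h.symm)).trans (Function.Bijective.of_comp_iff' hX _))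

include hsqX hsqY hf' hw in
/-- Surjectivity on global functions after a change of base is that of the tensored map. -/
theorem appTop_surjective_iff [IsAffine Y] [CompactSpace X] [X.IsSeparated]
    (hfl : FlatMod.IsFlatOver (X ↘ Spec (CommRingCat.of A)) (Coh.structureModule X))
    (hH : ∀ p : ℕ, 1 ≤ p → Subsingleton (Coh.HH X (Coh.structureModule X) p)) :
    Function.Surjective f'.appTop ↔ Function.Surjective ((gammaMap f hf).rTensor A') := by
  have hX := (flat_gamma_and_bijective hsqX hfl hH).2
  have hY := funBC_bijective hsqY (isAffineOpen_top Y)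
  have h : (funBC hsqX ⊤ : _ → _) ∘ (gammaMap f hf).rTensor A' = f'.appTop ∘ funBC hsqY ⊤ :=
    funext (funBC_gammaMap f hf hsqX hsqY f' hf' hw)
  refine ⟨fun hs x => ?_, fun hs x => ?_⟩
  · obtain ⟨z, hz⟩ := hs.comp hY.2 (funBC hsqX ⊤ x)
    exact ⟨z, hX.1 ((congrFun h z).trans hz)⟩
  · obtain ⟨w, rfl⟩ := hX.2 x
    obtain ⟨z, rfl⟩ := hs w
    exact ⟨funBC hsqY ⊤ z, (congrFun h z).symm⟩

include hsqX hw in
/-- Finiteness on global functions is stable under a change of base. -/
theorem finite_appTop_baseChange [CompactSpace X] [X.IsSeparated]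
    (hfl : FlatMod.IsFlatOver (X ↘ Spec (CommRingCat.of A)) (Coh.structureModule X))
    (hH : ∀ p : ℕ, 1 ≤ p → Subsingleton (Coh.HH X (Coh.structureModule X) p))
    (hf' : f' ≫ (Y' ↘ Spec (CommRingCat.of A')) = X' ↘ Spec (CommRingCat.of A'))
    (hfin : f.appTop.hom.Finite) : f'.appTop.hom.Finite := by
  classical
  have hX := (flat_gamma_and_bijective hsqX hfl hH).2
  letI algY : Algebra Γ(Y, ⊤) Γ(X, ⊤) := f.appTop.hom.toAlgebra
  letI algY' : Algebra Γ(Y', ⊤) Γ(X', ⊤) := f'.appTop.hom.toAlgebra
  have : Module.Finite Γ(Y, ⊤) Γ(X, ⊤) := hfin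
  obtain ⟨G, hG⟩ := (Module.Finite.fg_top : (⊤ : Submodule Γ(Y, ⊤) Γ(X, ⊤)).FG)
  refine ⟨⟨G.image (fun m => gX.appTop m), eq_top_iff.2 fun x _ => ?_⟩⟩
  let N := Submodule.span Γ(Y', ⊤) ((G.image fun m => gX.appTop m : Finset Γ(X', ⊤)) : Set Γ(X', ⊤))
  have hgen : ∀ m : Γ(X, ⊤), gX.appTop m ∈ N := fun m => by
    refine Submodule.span_induction (p := fun m _ => gX.appTop m ∈ N)
      (fun m hm => Submodule.subset_span (Finset.mem_coe.2 (Finset.mem_image_of_mem _ hm))) ?_
      (fun a b _ _ ha hb => ?_) (fun c m _ hm => ?_) (hG.ge trivial : m ∈ _)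
    · rw [map_zero]; exact N.zero_mem
    · rw [map_add]; exact N.add_mem ha hb
    · have h : gX.appTop (c • m) = (gY.appTop c : Γ(Y', ⊤)) • (gX.appTop m : Γ(X', ⊤)) := by
        change gX.appTop (f.appTop c * m) = f'.appTop (gY.appTop c) * gX.appTop m
        rw [map_mul, ← CommRingCat.comp_apply, ← CommRingCat.comp_apply, ← Scheme.Hom.comp_appTop,
          ← Scheme.Hom.comp_appTop, hw]
      rw [h]
      exact N.smul_mem _ hm
  obtain ⟨z, rfl⟩ := hX.2 x
  induction z using TensorProduct.induction_on with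
  | zero => rw [map_zero]; exact N.zero_mem
  | tmul m a =>
    rw [funBC_tmul, mul_comm]
    have h : toSec A' (⊤ : X'.Opens) a * gX.appTop (show Γ(X, ⊤) from m) =
        (toSec A' (⊤ : Y'.Opens) a : Γ(Y', ⊤)) • (gX.appTop (show Γ(X, ⊤) from m) : Γ(X', ⊤)) := by
      change _ = f'.appTop (toSec A' ⊤ a) * _
      rw [appTop_toSec f' hf']
    exact (show toSec A' (gX ⁻¹ᵁ ⊤) a * gX.app ⊤ (show Γ(X, ⊤) from m) ∈ N from
      h ▸ N.smul_mem _ (hgen _))
  | add a b ha hb => rw [map_add]; exact N.add_mem (ha trivial) (hb trivial)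

end BaseChange

section Field

variable {A : Type u} [CommRing A] {M N : Type u} [AddCommGroup M] [Module A M] [AddCommGroup N]
  [Module A N]

/-- Bijectivity after tensoring with a field is insensitive to field extensions. -/
theorem rTensor_bijective_of_field (k K : Type u) [Field k] [Field K] [Algebra A k] [Algebra A K]
    [Algebra k K] [IsScalarTower A k K] (φ : M →ₗ[A] N) (h : Function.Bijective (φ.rTensor K)) :
    Function.Bijective (φ.rTensor k) := by
  have hcomm : ∀ (L : Type u) [AddCommGroup L] [Module A L],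
      Function.Bijective (φ.lTensor L) ↔ Function.Bijective (φ.rTensor L) := fun L _ _ => by
    have hc : (TensorProduct.comm A L N : _ → _) ∘ φ.lTensor L = φ.rTensor L ∘ TensorProduct.comm A L M := by
      funext z
      induction z using TensorProduct.induction_on with
      | zero => simp
      | tmul a m => simp
      | add a b ha hb => simp only [Function.comp_apply, map_add] at ha hb ⊢; rw [ha, hb]
    rw [← Function.Bijective.of_comp_iff' (TensorProduct.comm A L N).bijective (φ.lTensor L), hc,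
      Function.Bijective.of_comp_iff _ (TensorProduct.comm A L M).bijective]
  rw [← hcomm] at h ⊢
  have := (Module.FaithfullyFlat.lTensor_bijective_iff_bijective (R := k) K (φ.baseChange k)).1 ?_
  · exact this
  · let eM := TensorProduct.AlgebraTensorModule.cancelBaseChange A k k K M
    let eN := TensorProduct.AlgebraTensorModule.cancelBaseChange A k k K N
    have hc : ∀ z, eN ((φ.baseChange k).lTensor K z) = φ.lTensor K (eM z) := fun z => by
      induction z using TensorProduct.induction_on with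
      | zero => simp
      | tmul c w =>
        induction w using TensorProduct.induction_on with
        | zero => simp
        | tmul a m => simp [eM, eN]
        | add a b ha hb => simp only [TensorProduct.tmul_add, map_add, ha, hb]
      | add a b ha hb => simp only [map_add, ha, hb]
    have := (Function.Bijective.of_comp_iff' eN.bijective ((φ.baseChange k).lTensor K)).1
    refine this ?_
    rw [show (eN : _ → _) ∘ (φ.baseChange k).lTensor K = φ.lTensor K ∘ eM from funext hc]
    exact h.comp eM.bijective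

/-- Surjectivity after tensoring with a field is insensitive to field extensions. -/
theorem rTensor_surjective_of_field (k K : Type u) [Field k] [Field K] [Algebra A k] [Algebra A K]
    [Algebra k K] [IsScalarTower A k K] (φ : M →ₗ[A] N) (h : Function.Surjective (φ.rTensor K)) :
    Function.Surjective (φ.rTensor k) := by
  have hcomm : ∀ (L : Type u) [AddCommGroup L] [Module A L],
      Function.Surjective (φ.lTensor L) ↔ Function.Surjective (φ.rTensor L) := fun L _ _ => by
    have hc : (TensorProduct.comm A L N : _ → _) ∘ φ.lTensor L = φ.rTensor L ∘ TensorProduct.comm A L M := by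
      funext z
      induction z using TensorProduct.induction_on with
      | zero => simp
      | tmul a m => simp
      | add a b ha hb => simp only [Function.comp_apply, map_add] at ha hb ⊢; rw [ha, hb]
    rw [← EquivLike.comp_surjective (φ.lTensor L) (TensorProduct.comm A L N), hc,
      EquivLike.surjective_comp (TensorProduct.comm A L M) (φ.rTensor L)]
  rw [← hcomm] at h ⊢
  refine (Module.FaithfullyFlat.lTensor_surjective_iff_surjective k K (φ.baseChange k)).1 ?_
  let eM := TensorProduct.AlgebraTensorModule.cancelBaseChange A k k K M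
  let eN := TensorProduct.AlgebraTensorModule.cancelBaseChange A k k K N
  have hc : ∀ z, eN ((φ.baseChange k).lTensor K z) = φ.lTensor K (eM z) := fun z => by
    induction z using TensorProduct.induction_on with
    | zero => simp
    | tmul c w =>
      induction w using TensorProduct.induction_on with
      | zero => simp
      | tmul a m => simp [eM, eN]
      | add a b ha hb => simp only [TensorProduct.tmul_add, map_add, ha, hb]
    | add a b ha hb => simp only [map_add, ha, hb]
  intro x
  obtain ⟨w, hw⟩ := h (eN x)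
  obtain ⟨z, rfl⟩ := eM.surjective w
  exact ⟨z, eN.injective ((hc z).trans hw)⟩

end Field

section Local

variable {X Y : Scheme.{u}} (f : X ⟶ Y)

/-- An element killing cokernel and kernel makes `f` bijective on its principal open. -/
theorem app_basicOpen_bijective [QuasiCompact f] [QuasiSeparated f] {U : Y.Opens} (hU : IsAffineOpen U)
    (h : Γ(Y, U)) (hs : ∀ m : Γ(X, f ⁻¹ᵁ U), ∃ b, f.app U b = f.app U h * m)
    (hi : ∀ b : Γ(Y, U), f.app U b = 0 → h * b = 0) :
    Function.Bijective (f.app (Y.basicOpen h)) := by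
  have hl := isLocalization_basicOpen_of_qcqs (f.isCompact_preimage hU.isCompact)
    (f.isQuasiSeparated_preimage hU.isQuasiSeparated) (f.app U h)
  have := hU.isLocalization_basicOpen h
  have e : X.basicOpen (f.app U h) = f ⁻¹ᵁ Y.basicOpen h := (Scheme.preimage_basicOpen f h).symm
  let ρ := X.presheaf.map (eqToHom e.symm).op
  have hρ : Function.Bijective ρ := ConcreteCategory.bijective_of_isIso ρ
  let aY := algebraMap Γ(Y, U) Γ(Y, Y.basicOpen h)
  let aX := algebraMap Γ(X, f ⁻¹ᵁ U) Γ(X, X.basicOpen (f.app U h))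
  have nat : ∀ b, f.app (Y.basicOpen h) (aY b) = ρ (aX (f.app U b)) := fun b => by
    refine (congr($(f.naturality (homOfLE (Y.basicOpen_le h)).op) b)).trans ?_
    exact (congr($(X.presheaf.map_comp (homOfLE (X.basicOpen_le (f.app U h))).op (eqToHom e.symm).op)
      (f.app U b))).trans rfl
  have hu : ∀ n : ℕ, IsUnit (aY (h ^ n)) := fun n =>
    IsLocalization.map_units (M := Submonoid.powers h) Γ(Y, Y.basicOpen h) ⟨_, n, rfl⟩
  refine ⟨(injective_iff_map_eq_zero (f.app (Y.basicOpen h)).hom).2 fun y hy => ?_, fun x => ?_⟩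
  · obtain ⟨⟨b, ⟨_, n, rfl⟩⟩, hb⟩ := IsLocalization.surj (Submonoid.powers h) y
    have h2 : aX (f.app U b) = 0 := hρ.1 <| by
      rw [← nat, map_zero]
      refine (congrArg (f.app (Y.basicOpen h)) hb.symm).trans ?_
      rw [map_mul, hy, zero_mul]
    obtain ⟨⟨_, m, rfl⟩, hm⟩ := (IsLocalization.map_eq_zero_iff
      (Submonoid.powers (f.app U h)) _ _).1 h2
    have hbz : h * (h ^ m * b) = 0 := hi _ (by rw [map_mul, map_pow]; exact hm)
    have hb0 : aY b = 0 := (IsLocalization.map_eq_zero_iff (Submonoid.powers h) _ _).2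
      ⟨⟨_, m + 1, rfl⟩, by
        change h ^ (m + 1) * b = 0
        rw [pow_succ', mul_assoc]
        exact hbz⟩
    exact (hu n).mul_left_eq_zero.1 (hb.trans hb0)
  · obtain ⟨x', rfl⟩ := hρ.2 x
    obtain ⟨⟨m, ⟨_, n, rfl⟩⟩, hm⟩ := IsLocalization.surj (Submonoid.powers (f.app U h)) x'
    obtain ⟨b, hb⟩ := hs m
    obtain ⟨v, hv⟩ := hu (n + 1)
    refine ⟨aY b * (v⁻¹ : Γ(Y, Y.basicOpen h)ˣ), ?_⟩
    have hb' : ρ x' * f.app (Y.basicOpen h) (v : Γ(Y, Y.basicOpen h)) = f.app (Y.basicOpen h) (aY b) := by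
      rw [hv, nat, nat, ← map_mul, hb, pow_succ, map_mul (f.app U).hom, map_pow,
        map_mul aX, ← mul_assoc, map_mul aX (f.app U h) m]
      exact congrArg ρ ((congrArg (· * aX (f.app U h)) hm).trans (mul_comm _ _))
    rw [map_mul, ← hb', mul_assoc, ← map_mul, Units.mul_inv, map_one, mul_one]

/-- An element killing the cokernel makes `f` surjective on its principal open. -/
theorem app_basicOpen_surjective [QuasiCompact f] [QuasiSeparated f] {U : Y.Opens} (hU : IsAffineOpen U)
    (h : Γ(Y, U)) (hs : ∀ m : Γ(X, f ⁻¹ᵁ U), ∃ b, f.app U b = f.app U h * m) :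
    Function.Surjective (f.app (Y.basicOpen h)) := by
  have hl := isLocalization_basicOpen_of_qcqs (f.isCompact_preimage hU.isCompact)
    (f.isQuasiSeparated_preimage hU.isQuasiSeparated) (f.app U h)
  have := hU.isLocalization_basicOpen h
  have e : X.basicOpen (f.app U h) = f ⁻¹ᵁ Y.basicOpen h := (Scheme.preimage_basicOpen f h).symm
  let ρ := X.presheaf.map (eqToHom e.symm).op
  have hρ : Function.Bijective ρ := ConcreteCategory.bijective_of_isIso ρ
  let aY := algebraMap Γ(Y, U) Γ(Y, Y.basicOpen h)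
  let aX := algebraMap Γ(X, f ⁻¹ᵁ U) Γ(X, X.basicOpen (f.app U h))
  have nat : ∀ b, f.app (Y.basicOpen h) (aY b) = ρ (aX (f.app U b)) := fun b => by
    refine (congr($(f.naturality (homOfLE (Y.basicOpen_le h)).op) b)).trans ?_
    exact (congr($(X.presheaf.map_comp (homOfLE (X.basicOpen_le (f.app U h))).op (eqToHom e.symm).op)
      (f.app U b))).trans rfl
  intro x
  obtain ⟨x', rfl⟩ := hρ.2 x
  obtain ⟨⟨m, ⟨_, n, rfl⟩⟩, hm⟩ := IsLocalization.surj (Submonoid.powers (f.app U h)) x'
  obtain ⟨b, hb⟩ := hs m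
  obtain ⟨v, hv⟩ : IsUnit (aY (h ^ (n + 1))) :=
    IsLocalization.map_units (M := Submonoid.powers h) Γ(Y, Y.basicOpen h) ⟨_, n + 1, rfl⟩
  refine ⟨aY b * (v⁻¹ : Γ(Y, Y.basicOpen h)ˣ), ?_⟩
  have hb' : ρ x' * f.app (Y.basicOpen h) (v : Γ(Y, Y.basicOpen h)) = f.app (Y.basicOpen h) (aY b) := by
    rw [hv, nat, nat, ← map_mul, hb, pow_succ, map_mul (f.app U).hom, map_pow,
      map_mul aX, ← mul_assoc, map_mul aX (f.app U h) m]
    exact congrArg ρ ((congrArg (· * aX (f.app U h)) hm).trans (mul_comm _ _))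
  rw [map_mul, ← hb', mul_assoc, ← map_mul, Units.mul_inv, map_one, mul_one]

end Local

section Noetherian

variable {A : Type u} [CommRing A] [IsNoetherianRing A] {X Y : Scheme.{u}}
  [X.Over (Spec (CommRingCat.of A))] [Y.Over (Spec (CommRingCat.of A))]
  (f : X ⟶ Y) (hf : f ≫ (Y ↘ Spec (CommRingCat.of A)) = X ↘ Spec (CommRingCat.of A))

omit [IsNoetherianRing A] in
lemma toSec_mem_prime_iff [IsAffine Y] (y : Y) (a : A) :
    toSec A (⊤ : Y.Opens) a ∈ ((isAffineOpen_top Y).primeIdealOf ⟨y, trivial⟩).asIdeal ↔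
      a ∈ ((Y ↘ Spec (CommRingCat.of A)) y : PrimeSpectrum A).asIdeal := by
  let π := Y ↘ Spec (CommRingCat.of A)
  let hY := isAffineOpen_top Y
  let P := hY.primeIdealOf ⟨y, trivial⟩
  let a' := (Scheme.ΓSpecIso (CommRingCat.of A)).inv a
  have h1 : y ∈ Y.basicOpen (toSec A ⊤ a) ↔ toSec A (⊤ : Y.Opens) a ∉ P.asIdeal := by
    have h := SetLike.ext_iff.1 (hY.fromSpec_preimage_basicOpen (toSec A (⊤ : Y.Opens) a)) P
    change hY.fromSpec P ∈ Y.basicOpen (toSec A ⊤ a) ↔ _ at h
    rwa [hY.fromSpec_primeIdealOf] at h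
  have h2 : Y.basicOpen (toSec A ⊤ a) = π ⁻¹ᵁ PrimeSpectrum.basicOpen a := by
    rw [← basicOpen_eq_of_affine (R := CommRingCat.of A) a, Scheme.preimage_basicOpen]
    change Y.basicOpen (Y.presheaf.map (homOfLE le_top).op _) = _
    rw [Y.basicOpen_res, top_inf_eq]
    rfl
  rw [h2] at h1
  exact not_iff_not.1 (h1.symm.trans Iff.rfl)

include hf in
/-- Over a Noetherian base, bijectivity on the fibre spreads to a neighbourhood. -/
theorem exists_basicOpen_bijective [IsAffine Y] [IsProper f]
    [LocallyOfFiniteType (Y ↘ Spec (CommRingCat.of A))]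
    (hfl : FlatMod.IsFlatOver (X ↘ Spec (CommRingCat.of A)) (Coh.structureModule X))
    (hH : ∀ p : ℕ, 1 ≤ p → Subsingleton (Coh.HH X (Coh.structureModule X) p))
    (y : Y) (p : Ideal A) [p.IsPrime]
    (hp : ((Y ↘ Spec (CommRingCat.of A)) y : PrimeSpectrum A).asIdeal = p)
    (K : Type u) [Field K] [Algebra A K] [Algebra p.ResidueField K]
    [IsScalarTower A p.ResidueField K] (hK : Function.Bijective ((gammaMap f hf).rTensor K)) :
    ∃ h : Γ(Y, ⊤), y ∈ Y.basicOpen h ∧ Function.Bijective (f.app (Y.basicOpen h)) := by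
  haveI : IsLocallyNoetherian Y :=
    LocallyOfFiniteType.isLocallyNoetherian (Y ↘ Spec (CommRingCat.of A))
  haveI : CompactSpace X := QuasiCompact.compactSpace_of_compactSpace f
  haveI : X.IsSeparated := by
    rw [Scheme.isSeparated_iff, show terminal.from X = f ≫ terminal.from Y from Subsingleton.elim _ _]
    infer_instance
  let B := Γ(Y, ⊤)
  let hY := isAffineOpen_top Y
  haveI : IsNoetherianRing B := IsLocallyNoetherian.component_noetherian ⟨⊤, hY⟩
  let algAB : Algebra A B := (toSec A (⊤ : Y.Opens)).toAlgebra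
  let algBM : Algebra B Γ(X, ⊤) := f.appTop.hom.toAlgebra
  let M := secA A (Coh.structureModule X) (⊤ : X.Opens)
  let modBM : Module B M := inferInstanceAs (Module B Γ(X, ⊤))
  haveI : IsScalarTower A B M := IsScalarTower.of_algebraMap_smul fun a (m : Γ(X, ⊤)) => by
    change f.appTop (toSec A ⊤ a) * m = toSec A (⊤ : X.Opens) a * m
    rw [appTop_toSec f hf]
  haveI : Module.Finite B M :=
    (Groth.HensPair.finite_app_of_proper Groth.CohFin.projFinite (f := f) hY :
      (f.app ⊤).hom.Finite)
  haveI : Module.Flat A M := (flat_gamma_and_bijective (A' := A) (g := 𝟙 X)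
    (by
      haveI : IsIso (Spec.map (CommRingCat.ofHom (algebraMap A A))) := by
        rw [show CommRingCat.ofHom (algebraMap A A) = 𝟙 _ from rfl, Spec.map_id]; infer_instance
      exact IsPullback.of_horiz_isIso ⟨by
        rw [show CommRingCat.ofHom (algebraMap A A) = 𝟙 _ from rfl, Spec.map_id, Category.comp_id,
          Category.id_comp]⟩)
    hfl hH).1
  let φ : B →ₗ[B] M := Algebra.linearMap B Γ(X, ⊤)
  let q := (hY.primeIdealOf ⟨y, trivial⟩).asIdeal
  have hpq : q.comap (algebraMap A B) = p := by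
    ext a
    rw [← hp, Ideal.mem_comap]
    exact toSec_mem_prime_iff y a
  let eB : B ≃ₗ[A] secA A (Coh.structureModule Y) (⊤ : Y.Opens) :=
    { toFun := fun s => s
      invFun := fun s => s
      map_add' := fun _ _ => rfl
      map_smul' := fun _ _ => rfl }
  have hκ : Function.Bijective ((φ.restrictScalars A).rTensor p.ResidueField) := by
    have hφ : φ.restrictScalars A = (gammaMap f hf).comp eB.toLinearMap := LinearMap.ext fun b => rfl
    rw [hφ, LinearMap.rTensor_comp]
    exact (rTensor_bijective_of_field p.ResidueField K _ hK).comp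
      (eB.rTensor p.ResidueField).bijective
  obtain ⟨h, hh, hs, hi⟩ := exists_notMem_bijective p q hpq φ hκ
  refine ⟨h, ?_, app_basicOpen_bijective f hY h (fun m => ?_) fun b hb => hi b hb⟩
  · have h' := SetLike.ext_iff.1 (hY.fromSpec_preimage_basicOpen h) (hY.primeIdealOf ⟨y, trivial⟩)
    change hY.fromSpec _ ∈ Y.basicOpen h ↔ _ at h'
    rw [hY.fromSpec_primeIdealOf] at h'
    exact h'.2 hh
  · obtain ⟨b, hb⟩ := hs (show M from m)
    exact ⟨b, hb⟩

omit [IsNoetherianRing A] in
include hf in
/-- Surjectivity on the fibre spreads to a neighbourhood when sections form a finite module. -/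
theorem exists_basicOpen_surjective [IsAffine Y] [QuasiCompact f] [QuasiSeparated f]
    (hfin : f.appTop.hom.Finite)
    (y : Y) (p : Ideal A) [p.IsPrime]
    (hp : ((Y ↘ Spec (CommRingCat.of A)) y : PrimeSpectrum A).asIdeal = p)
    (K : Type u) [Field K] [Algebra A K] [Algebra p.ResidueField K]
    [IsScalarTower A p.ResidueField K] (hK : Function.Surjective ((gammaMap f hf).rTensor K)) :
    ∃ h : Γ(Y, ⊤), y ∈ Y.basicOpen h ∧ Function.Surjective (f.app (Y.basicOpen h)) := by
  let B := Γ(Y, ⊤)
  let hY := isAffineOpen_top Y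
  let algAB : Algebra A B := (toSec A (⊤ : Y.Opens)).toAlgebra
  let algBM : Algebra B Γ(X, ⊤) := f.appTop.hom.toAlgebra
  let M := secA A (Coh.structureModule X) (⊤ : X.Opens)
  let modBM : Module B M := inferInstanceAs (Module B Γ(X, ⊤))
  haveI : IsScalarTower A B M := IsScalarTower.of_algebraMap_smul fun a (m : Γ(X, ⊤)) => by
    change f.appTop (toSec A ⊤ a) * m = toSec A (⊤ : X.Opens) a * m
    rw [appTop_toSec f hf]
  haveI : Module.Finite B M := hfin
  let φ : B →ₗ[B] M := Algebra.linearMap B Γ(X, ⊤)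
  let q := (hY.primeIdealOf ⟨y, trivial⟩).asIdeal
  have hpq : q.comap (algebraMap A B) = p := by
    ext a
    rw [← hp, Ideal.mem_comap]
    exact toSec_mem_prime_iff y a
  let eB : B ≃ₗ[A] secA A (Coh.structureModule Y) (⊤ : Y.Opens) :=
    { toFun := fun s => s
      invFun := fun s => s
      map_add' := fun _ _ => rfl
      map_smul' := fun _ _ => rfl }
  have hκ : Function.Surjective ((φ.restrictScalars A).rTensor p.ResidueField) := by
    have hφ : φ.restrictScalars A = (gammaMap f hf).comp eB.toLinearMap := LinearMap.ext fun b => rfl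
    rw [hφ, LinearMap.rTensor_comp]
    exact (rTensor_surjective_of_field p.ResidueField K _ hK).comp
      (eB.rTensor p.ResidueField).surjective
  obtain ⟨h, hh, hs⟩ := exists_notMem_smul_mem_range p q hpq φ hκ
  refine ⟨h, ?_, app_basicOpen_surjective f hY h fun m => ?_⟩
  · have h' := SetLike.ext_iff.1 (hY.fromSpec_preimage_basicOpen h) (hY.primeIdealOf ⟨y, trivial⟩)
    change hY.fromSpec _ ∈ Y.basicOpen h ↔ _ at h'
    rw [hY.fromSpec_primeIdealOf] at h'
    exact h'.2 hh
  · obtain ⟨b, hb⟩ := hs (show M from m)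
    exact ⟨b, hb⟩

end Noetherian

end Groth.Contraction
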