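import Groth.Agent.Contraction.Near
import Groth.Agent.Limits.ProperDescent
import Groth.Agent.SpectralTopology.AlgSystem
import Groth.Agent.SpectralTopology.Dim
import Mathlib.AlgebraicGeometry.Morphisms.ClosedImmersion

/-!
# `O_Y → f_* O_X` surjective near a fibre, without finiteness hypotheses on `Y`
-/

universe u

open CategoryTheory Limits AlgebraicGeometry TopologicalSpace Opposite
open scoped TensorProduct

set_option backward.isDefEq.respectTransparency.types false

namespace Groth.Contraction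

open Groth.CohBase

variable {X Y S : Scheme.{u}}

/-- Points of a family with no higher cohomology over an affine scheme stay good after projecting to
another affine base. -/
theorem good_comp_of_affine {P : Scheme.{u}} (f : X ⟶ Y) (m : Y ⟶ P) [IsProper f] [IsProper (f ≫ m)]
    [IsAffine Y] [IsAffine P] (hg : ∀ y, Good f y) (z : P) : Good (f ≫ m) z := by
  have hd : ∀ z : P, topologicalKrullDim ↥((f ≫ m).fiber z) ≤ (1 : ℕ) := fun z => by
    let F := (f ≫ m).fiber z
    let R : Type u := Γ(F, ⊤)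
    haveI : IsArtinianRing (Γ(Spec (P.residueField z), ⊤)) :=
      (Scheme.ΓSpecIso (P.residueField z)).symm.commRingCatIsoToRingEquiv.isArtinianRing
    haveI : IsArtinianRing R := by
      let : Algebra Γ(Spec (P.residueField z), ⊤) R :=
        ((f ≫ m).fiberToSpecResidueField z).appTop.hom.toAlgebra
      haveI : IsProper ((f ≫ m).fiberToSpecResidueField z) :=
        MorphismProperty.of_isPullback (IsPullback.of_hasPullback (f ≫ m) (P.fromSpecResidueField z))
          ‹IsProper (f ≫ m)›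
      have : Module.Finite Γ(Spec (P.residueField z), ⊤) R :=
        (HensPair.finite_app_of_proper CohFin.projFinite (f := (f ≫ m).fiberToSpecResidueField z)
          (isAffineOpen_top _) : ((f ≫ m).fiberToSpecResidueField z).appTop.hom.Finite)
      exact IsArtinianRing.of_finite Γ(Spec (P.residueField z), ⊤) R
    let c := F.toSpecΓ
    let ι := (f ≫ m).fiberι z
    haveI : Finite (PrimeSpectrum R) := inferInstance
    haveI : DiscreteTopology (PrimeSpectrum R) := inferInstance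
    rw [SpectralTopology.topologicalKrullDim_eq_iSup_of_closed
      (fun t : PrimeSpectrum R => c ⁻¹' {t}) fun Z =>
        SpectralTopology.isPreirreducible_subset_iUnion_closed Z.isIrreducible
          (fun t => (isClosed_discrete _).preimage c.continuous)
          fun x _ => Set.mem_iUnion.2 ⟨c x, rfl⟩]
    refine iSup_le fun t => ?_
    rcases isEmpty_or_nonempty (c ⁻¹' {t} : Set F) with he | ⟨⟨x₀, hx₀⟩⟩
    · haveI : IsEmpty (IrreducibleCloseds (c ⁻¹' {t} : Set F)) :=
        ⟨fun Z => Z.isIrreducible.nonempty.elim fun x _ => he.false x⟩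
      rw [topologicalKrullDim, Order.krullDim_eq_bot]
      exact bot_le
    · have key : ∀ x : F, c x = t → f (ι x) = f (ι x₀) := fun x hx => by
        have h : ι ≫ f = c ≫ Spec.map ((ι ≫ f).appTop) ≫ Y.isoSpec.inv := by
          rw [← Scheme.toSpecΓ_naturality_assoc]
          exact (Category.comp_id _).symm.trans (congrArg ((ι ≫ f) ≫ ·) Y.isoSpec.hom_inv_id).symm
        rw [← Scheme.Hom.comp_apply, ← Scheme.Hom.comp_apply, h, Scheme.Hom.comp_apply,
          Scheme.Hom.comp_apply c, hx, show c x₀ = t from hx₀]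
      let y := f (ι x₀)
      let φ : (c ⁻¹' {t} : Set F) → (f ⁻¹' {y} : Set X) := fun x => ⟨ι x.1, key x.1 x.2⟩
      have hφ : Topology.IsInducing φ := by
        refine Topology.IsInducing.of_comp ?_ continuous_subtype_val ?_
        · exact (ι.continuous.comp continuous_subtype_val).subtype_mk _
        · exact ι.isEmbedding.isInducing.comp Topology.IsInducing.subtypeVal
      exact (((f.fiberHomeo y).symm.isInducing.comp hφ).topologicalKrullDim_le).trans (hg y).1
  refine ⟨hd z, fibre_h1_of_killed (f ≫ m) (isAffineOpen_top P) (fun w _ => hd w) (y := z) trivial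
    (t := 1) (by rw [P.basicOpen_of_isUnit isUnit_one]; trivial) fun h => ?_⟩
  haveI := subsingleton_HH_preimage f (isAffineOpen_top Y) (fun y _ => hg y) 1 le_rfl
  exact Subsingleton.elim (α := Coh.HH (f ⁻¹ᵁ ⊤ : X.Opens) (Coh.structureModule _) 1) _ _

/-- Near a good point, sections over the preimage form a finite module, for a flat family. -/
theorem exists_finite_app_nhd {A : CommRingCat.{u}} (f : X ⟶ Y) (g : Y ⟶ Spec A) [IsProper f]
    [IsAffine Y] [LocallyOfFinitePresentation g] [LocallyOfFinitePresentation (f ≫ g)]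
    [Flat (f ≫ g)] (y : Y) (hy : Good f y) :
    ∃ U : Y.Opens, IsAffineOpen U ∧ y ∈ U ∧ (f.app U).hom.Finite := by
  haveI : IsAffine (SpectralTopology.fgCone A).pt := inferInstanceAs (IsAffine (Spec _))
  let g' : Y ⟶ (SpectralTopology.fgCone A).pt := g
  haveI : LocallyOfFinitePresentation g' := inferInstanceAs (LocallyOfFinitePresentation g)
  haveI : LocallyOfFinitePresentation (f ≫ g') := inferInstanceAs (LocallyOfFinitePresentation (f ≫ g))
  haveI : Flat (f ≫ g') := inferInstanceAs (Flat (f ≫ g))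
  obtain ⟨k, X₀, Y₀, f₀, h₀, qX, qY, hf₀p, hh₀, hfl₀, hqc₀, hsqX, hsqY⟩ :=
    exists_model A f g' 
  let A₀ : Type u := k.unop.1
  let h₀' : Y₀ ⟶ Spec (CommRingCat.of A₀) := h₀
  haveI : LocallyOfFinitePresentation h₀' := hh₀
  haveI : Flat (f₀ ≫ h₀') := hfl₀
  haveI : IsNoetherianRing A₀ :=
    have : Algebra.FiniteType ℤ k.unop.1 := k.unop.1.fg_iff_finiteType.1 k.unop.2
    Algebra.FiniteType.isNoetherianRing ℤ _
  obtain ⟨W₀, hW₀, hyW₀, hW₀g⟩ := exists_isAffineOpen_mem_and_subset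
    (U := ⟨_, isOpen_good f₀⟩) (x := qY y) ((good_baseChange_iff f₀ hsqX y).1 hy)
  letI : Algebra A₀ A := k.unop.1.val.toRingHom.toAlgebra
  haveI : IsLocallyNoetherian Y₀ := LocallyOfFiniteType.isLocallyNoetherian h₀'
  haveI : IsAffineHom qY := by
    haveI : IsAffineHom ((SpectralTopology.fgCone A).π.app k) :=
      inferInstanceAs (IsAffineHom (Spec.map _))
    exact MorphismProperty.of_isPullback hsqY.flip inferInstance
  refine ⟨qY ⁻¹ᵁ W₀, hW₀.preimage qY, hyW₀, ?_⟩
  have h := (app_chart_iff (A := A₀) (A' := A) f₀ h₀' (𝟙 _) W₀ (fun z _ => ⟨h₀' z, rfl⟩) g f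
    (show IsPullback qY g h₀' (Spec.map (CommRingCat.ofHom (algebraMap A₀ A))) from hsqY) hsqX (𝟙 _)
    ((Category.id_comp _).trans (Category.comp_id _).symm) hW₀ inferInstance
    fun z hz => hW₀g hz).2.2 (HensPair.finite_app_of_proper CohFin.projFinite (f := f₀) hW₀)
  have e : qY ⁻¹ᵁ W₀ ⊓ g ⁻¹ᵁ (𝟙 (Spec A) : Spec A ⟶ Spec A).opensRange = qY ⁻¹ᵁ W₀ :=
    inf_eq_left.2 fun z _ => ⟨g z, rfl⟩
  have key : ∀ U U' : Y.Opens, U = U' → (f.app U).hom.Finite → (f.app U').hom.Finite :=
    fun U U' he hf => by subst he; exact hf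
  exact key _ _ e h

/-- Finiteness of sections near a good point of a proper morphism whose source is flat of finite
presentation over a base. -/
theorem exists_finite_app_nhd' {A : CommRingCat.{u}} (f : X ⟶ Y) [IsProper f] [IsAffine Y]
    (j : Y ⟶ Spec A) [LocallyOfFinitePresentation (f ≫ j)] [Flat (f ≫ j)] (hg : ∀ y, Good f y)
    (y : Y) : ∃ U : Y.Opens, IsAffineOpen U ∧ y ∈ U ∧ (f.app U).hom.Finite := by
  let B : CommRingCat.{u} := Γ(Y, ⊤)
  let e : A ⟶ B := Spec.preimage (Y.isoSpec.inv ≫ j)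
  have he : Spec.map e = Y.isoSpec.inv ≫ j := Spec.map_preimage _
  letI : Algebra A B := e.hom.toAlgebra
  haveI : IsDirectedOrder (SpectralTopology.AlgSub A B) :=
    ⟨fun s t => ⟨⟨s.1 ⊔ t.1, s.2.sup t.2⟩, (le_sup_left : s.1 ≤ s.1 ⊔ t.1),
      (le_sup_right : t.1 ≤ s.1 ⊔ t.1)⟩⟩
  haveI : IsFiltered (SpectralTopology.AlgSub A B) := isFiltered_of_directed_le_nonempty _
  haveI : IsCofiltered (SpectralTopology.AlgSub A B)ᵒᵖ := isCofiltered_op_of_isFiltered _
  haveI : ∀ i, IsAffine ((SpectralTopology.algSchemes A B).obj i) := fun i =>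
    inferInstanceAs (IsAffine (Spec _))
  let t : SpectralTopology.algSchemes A B ⟶ (Functor.const _).obj (Spec A) :=
    { app := SpectralTopology.algToBase A B
      naturality := fun s s' φ => (SpectralTopology.algSchemes_map_toBase A B φ).trans
        (Category.comp_id _).symm }
  let h : X ⟶ (SpectralTopology.algCone A B).pt := f ≫ Y.isoSpec.hom
  haveI : IsProper h := inferInstanceAs (IsProper (f ≫ Y.isoSpec.hom))
  let i₀ : (SpectralTopology.AlgSub A B)ᵒᵖ := op ⟨⊥, Subalgebra.fg_bot⟩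
  have hbase : ∀ i, (SpectralTopology.algCone A B).π.app i ≫ SpectralTopology.algToBase A B i =
      Y.isoSpec.inv ≫ j := fun i => (SpectralTopology.algCone_π_toBase A B i).trans he
  have hcomp : ∀ i, h ≫ (SpectralTopology.algCone A B).π.app i ≫ t.app i = f ≫ j := fun i => by
    change (f ≫ Y.isoSpec.hom) ≫
      (SpectralTopology.algCone A B).π.app i ≫ SpectralTopology.algToBase A B i = f ≫ j
    exact (congrArg ((f ≫ Y.isoSpec.hom) ≫ ·) (hbase i)).trans
      ((Category.assoc _ _ _).trans (congrArg (f ≫ ·) (Iso.hom_inv_id_assoc Y.isoSpec j)))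
  haveI : LocallyOfFiniteType (h ≫ (SpectralTopology.algCone A B).π.app i₀ ≫ t.app i₀) := by
    rw [hcomp]; infer_instance
  obtain ⟨i, hi⟩ := Limits.exists_isProper_comp_π (SpectralTopology.isLimitAlgCone A B) t i₀ h
  haveI := hi i (𝟙 i)
  haveI : Algebra.FiniteType A i.unop.1 := i.unop.1.fg_iff_finiteType.1 i.unop.2
  obtain ⟨n, φ, hφ⟩ := Algebra.FiniteType.iff_quotient_mvPolynomial''.1
    (inferInstance : Algebra.FiniteType A i.unop.1)
  let PR : CommRingCat.{u} := CommRingCat.of (MvPolynomial (Fin n) A)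
  let π₂ : (SpectralTopology.algSchemes A B).obj i ⟶ Spec PR :=
    Spec.map (CommRingCat.ofHom φ.toRingHom)
  haveI : IsClosedImmersion π₂ := IsClosedImmersion.spec_of_surjective _ hφ
  let hP : Spec PR ⟶ Spec A := Spec.map (CommRingCat.ofHom MvPolynomial.C)
  haveI : LocallyOfFinitePresentation hP := by
    refine (HasRingHomProperty.Spec_iff (P := @LocallyOfFinitePresentation)).2 ?_
    exact RingHom.finitePresentation_algebraMap.2 (inferInstance : Algebra.FinitePresentation A (MvPolynomial (Fin n) A))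
  have hπ₂ : π₂ ≫ hP = SpectralTopology.algToBase A B i := by
    refine (Spec.map_comp _ _).symm.trans (congrArg Spec.map (CommRingCat.hom_ext ?_))
    exact RingHom.ext fun a => φ.commutes a
  let m : Y ⟶ Spec PR := Y.isoSpec.hom ≫ (SpectralTopology.algCone A B).π.app i ≫ π₂
  have hm : m ≫ hP = j := by
    change (Y.isoSpec.hom ≫ (SpectralTopology.algCone A B).π.app i ≫ π₂) ≫ hP = j
    refine (Category.assoc _ _ _).trans ?_
    refine (congrArg (Y.isoSpec.hom ≫ ·) ?_).trans (Iso.hom_inv_id_assoc Y.isoSpec j)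
    exact (Category.assoc _ _ _).trans
      ((congrArg ((SpectralTopology.algCone A B).π.app i ≫ ·) hπ₂).trans (hbase i))
  have hfm : f ≫ m = (h ≫ (SpectralTopology.algCone A B).π.app i) ≫ π₂ :=
    ((Category.assoc _ _ _).trans (Category.assoc _ _ _)).symm
  haveI : IsProper (f ≫ m) := by rw [hfm]; infer_instance
  haveI : Flat ((f ≫ m) ≫ hP) := by rw [Category.assoc, hm]; infer_instance
  haveI : LocallyOfFinitePresentation ((f ≫ m) ≫ hP) := by rw [Category.assoc, hm]; infer_instance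
  obtain ⟨U, hU, hyU, hfin⟩ :=
    exists_finite_app_nhd (f ≫ m) hP (m y) (good_comp_of_affine f m hg (m y))
  refine ⟨m ⁻¹ᵁ U, hU.preimage m, hyU, ?_⟩
  rw [Scheme.Hom.comp_app] at hfin
  exact RingHom.Finite.of_comp_finite (f := (m.app U).hom) hfin

/-- Surjectivity on a fibre spreads out over an open where sections form a finite module. -/
theorem exists_open_surjective_of_fibre {A : Type u} [CommRing A] (f : X ⟶ Y) (g : Y ⟶ S)
    (ρ : Spec (CommRingCat.of A) ⟶ S) [IsOpenImmersion ρ] [IsProper f] {W : Y.Opens}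
    (hW : IsAffineOpen W) (hWρ : W ≤ g ⁻¹ᵁ ρ.opensRange) (hfin : (f.app W).hom.Finite) {y : Y}
    (hy : y ∈ W) (K : Type u) [Field K] (σ : A →+* K)
    (hσ : RingHom.ker σ = (chartHom g ρ W hWρ ⟨y, hy⟩ : PrimeSpectrum A).asIdeal)
    (hK : letI : Algebra A K := σ.toAlgebra
      Function.Surjective ((chartMap f g ρ W hWρ).rTensor K)) :
    ∃ W₁ : Y.Opens, IsAffineOpen W₁ ∧ y ∈ W₁ ∧ W₁ ≤ W ∧ Function.Surjective (f.app W₁) := by
  letI : Algebra A K := σ.toAlgebra
  letI : (W : Scheme.{u}).Over (Spec (CommRingCat.of A)) := ⟨chartHom g ρ W hWρ⟩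
  letI : ((f ⁻¹ᵁ W : X.Opens) : Scheme.{u}).Over (Spec (CommRingCat.of A)) :=
    ⟨(f ∣_ W) ≫ chartHom g ρ W hWρ⟩
  haveI : IsAffine W.toScheme := hW
  let p : Ideal A := (chartHom g ρ W hWρ ⟨y, hy⟩ : PrimeSpectrum A).asIdeal
  haveI : IsProper (f ∣_ W) := MorphismProperty.of_isPullback
    (isPullback_morphismRestrict f W).flip ‹IsProper f›
  letI : Algebra p.ResidueField K :=
    (Ideal.ResidueField.lift p σ hσ.ge (fun a ha => isUnit_iff_ne_zero.2 fun h =>
      ha (hσ.le (RingHom.mem_ker.2 h)))).toAlgebra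
  haveI : IsScalarTower A p.ResidueField K := IsScalarTower.of_algebraMap_eq fun a =>
    (Ideal.ResidueField.lift_algebraMap p σ _ _ a).symm
  obtain ⟨h, hyh, hsur⟩ := exists_basicOpen_surjective (f ∣_ W) rfl
    ((finite_app_iff_restrict f W).1 hfin) ⟨y, hy⟩ p rfl K hK
  have hB := isAffineOpen_top W.toScheme
  refine ⟨W.ι ''ᵁ W.toScheme.basicOpen h, (hB.basicOpen h).image_of_isOpenImmersion W.ι,
    ⟨⟨y, hy⟩, hyh, rfl⟩, (W.ι.image_le_opensRange _).trans_eq W.opensRange_ι, fun x => ?_⟩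
  rw [morphismRestrict_app] at hsur
  obtain ⟨a, ha⟩ := hsur (X.presheaf.map
    (eqToHom (image_morphismRestrict_preimage f W (W.toScheme.basicOpen h))).op x)
  exact ⟨a, (ConcreteCategory.bijective_of_isIso (X.presheaf.map
    (eqToHom (image_morphismRestrict_preimage f W (W.toScheme.basicOpen h))).op)).1 ha⟩

/-- Near a point over `s`, surjectivity on the fibre over `s` spreads out. -/
theorem exists_surjective_nhd (f : X ⟶ Y) (g : Y ⟶ S) [IsProper f]
    [LocallyOfFinitePresentation (f ≫ g)] (s : S) (O : Y.Opens)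
    (hgood : ∀ y ∈ O, Good f y) (hflat : Flat ((f ⁻¹ᵁ O).ι ≫ f ≫ g))
    (hsurj : ∀ U : (g.fiber s).Opens, IsAffineOpen U →
      Function.Surjective ((MoreMor.fiberMap f g s).app U))
    (y : Y) (hy : y ∈ O) (hys : g y = s) :
    ∃ U : Y.Opens, IsAffineOpen U ∧ y ∈ U ∧ U ≤ O ∧ Function.Surjective (f.app U) := by
  obtain ⟨T, hT, hsT, -⟩ :=
    exists_isAffineOpen_mem_and_subset (U := (⊤ : S.Opens)) (x := s) trivial
  obtain ⟨U₁, hU₁, hyU₁, hU₁O⟩ := exists_isAffineOpen_mem_and_subset (U := O ⊓ g ⁻¹ᵁ T) (x := y)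
    ⟨hy, show g y ∈ T by rw [hys]; exact hsT⟩
  have hUρ : U₁ ≤ g ⁻¹ᵁ hT.fromSpec.opensRange := by
    rw [hT.opensRange_fromSpec]; exact fun z hz => (hU₁O hz).2
  let j : (U₁ : Scheme.{u}) ⟶ Spec Γ(S, T) := chartHom g hT.fromSpec U₁ hUρ
  have hj : j ≫ hT.fromSpec = U₁.ι ≫ g := chartHom_fac g hT.fromSpec U₁ hUρ
  let f₁ := f ∣_ U₁
  haveI : IsProper f₁ := MorphismProperty.of_isPullback
    (isPullback_morphismRestrict f U₁).flip ‹IsProper f›
  haveI : IsAffine U₁.toScheme := hU₁
  haveI : Mono hT.fromSpec := inferInstance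
  have hf₁ : (f₁ ≫ j) ≫ hT.fromSpec = (f ⁻¹ᵁ U₁).ι ≫ f ≫ g := by
    rw [Category.assoc, hj, morphismRestrict_ι_assoc]
  have hU₁fl : Flat ((f ⁻¹ᵁ U₁).ι ≫ f ≫ g) := by
    rw [← X.homOfLE_ι (f.preimage_mono (fun z hz => (hU₁O hz).1)), Category.assoc]
    infer_instance
  haveI : Flat (f₁ ≫ j) := prop_of_comp_mono @Flat _ hT.fromSpec (by rw [hf₁]; exact hU₁fl)
  haveI : LocallyOfFinitePresentation (f₁ ≫ j) :=
    prop_of_comp_mono @LocallyOfFinitePresentation _ hT.fromSpec (by rw [hf₁]; infer_instance)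
  have hg1 : ∀ z, Good f₁ z := fun z =>
    (good_baseChange_iff f (isPullback_morphismRestrict f U₁).flip z).2 (hgood _ (hU₁O z.2).1)
  obtain ⟨U₂', hU₂', hyU₂', hfin'⟩ := exists_finite_app_nhd' f₁ j hg1 ⟨y, hyU₁⟩
  let W := U₁.ι ''ᵁ U₂'
  have hWU₁ : W ≤ U₁ := (U₁.ι.image_le_opensRange _).trans_eq U₁.opensRange_ι
  have hWaff : IsAffineOpen W := hU₂'.image_of_isOpenImmersion U₁.ι
  have hWfin : (f.app W).hom.Finite := by
    rw [morphismRestrict_app] at hfin'
    exact (RingHom.finite_respectsIso.cancel_right_isIso (f.app W)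
      (X.presheaf.map (eqToHom (image_morphismRestrict_preimage f U₁ U₂')).op)).1 hfin'
  have hWρ : W ≤ g ⁻¹ᵁ hT.fromSpec.opensRange := hWU₁.trans hUρ
  have hWfl : Flat ((f ⁻¹ᵁ W).ι ≫ f ≫ g) := by
    rw [← X.homOfLE_ι (f.preimage_mono (fun z hz => (hU₁O (hWU₁ hz)).1)), Category.assoc]
    infer_instance
  have hyW : y ∈ W := ⟨⟨y, hyU₁⟩, hyU₂', rfl⟩
  let ev : Γ(S, T) ⟶ S.residueField s := S.evaluation T s hsT
  have hev : Spec.map ev ≫ hT.fromSpec = S.fromSpecResidueField s :=
    CohBase.SpecMap_evaluation_fromSpec hT s hsT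
  have hY : IsPullback (g.fiberι s) (g.fiberToSpecResidueField s) g (S.fromSpecResidueField s) :=
    IsPullback.of_hasPullback _ _
  have hX := FlatMor2.FibCrit.isPullback_fiberMap f g s
  have hσ : RingHom.ker ev.hom = (chartHom g hT.fromSpec W hWρ ⟨y, hyW⟩ : PrimeSpectrum Γ(S, T)).asIdeal := by
    have e1 : chartHom g hT.fromSpec W hWρ ⟨y, hyW⟩ =
        Spec.map ev (IsLocalRing.closedPoint (S.residueField s)) := by
      refine hT.fromSpec.isEmbedding.injective ?_
      refine (congr($(chartHom_fac g hT.fromSpec W hWρ) ⟨y, hyW⟩)).trans (hys.trans ?_)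
      exact (Scheme.fromSpecResidueField_apply s _).symm.trans (congr($(hev.symm) _))
    rw [e1]
    change _ = (IsLocalRing.maximalIdeal (S.residueField s)).comap ev.hom
    rw [IsLocalRing.maximalIdeal_eq_bot]
    rfl
  have hK : letI : Algebra Γ(S, T) (S.residueField s) := ev.hom.toAlgebra
      Function.Surjective ((chartMap f g hT.fromSpec W hWρ).rTensor (S.residueField s)) := by
    letI : Algebra Γ(S, T) (S.residueField s) := ev.hom.toAlgebra
    have hτ : 𝟙 (Spec (S.residueField s)) ≫ S.fromSpecResidueField s =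
        Spec.map (CommRingCat.ofHom (algebraMap Γ(S, T) (S.residueField s))) ≫ hT.fromSpec :=
      (Category.id_comp _).trans hev.symm
    refine (app_surjective_iff (A := Γ(S, T)) (A' := S.residueField s) f g hT.fromSpec W hWρ (g.fiberToSpecResidueField s)
      (MoreMor.fiberMap f g s) hY hX (𝟙 (Spec (CommRingCat.of (S.residueField s)))) hτ hWaff hWfl fun z hz => hgood z (hU₁O (hWU₁ hz)).1).1
      (hsurj _ ?_)
    let W' := g.fiberι s ⁻¹ᵁ W ⊓ g.fiberToSpecResidueField s ⁻¹ᵁ (𝟙 (Spec (S.residueField s))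
      : Spec (S.residueField s) ⟶ Spec (S.residueField s)).opensRange
    let gA : (W' : Scheme.{u}) ⟶ Spec (S.residueField s) := W'.ι ≫ g.fiberToSpecResidueField s
    have hsq := isPullback_opens hY hT.fromSpec (𝟙 _)
      (Spec.map (CommRingCat.ofHom (algebraMap Γ(S, T) (S.residueField s)))) hτ W _
      (chartHom_fac g hT.fromSpec W hWρ) W' (fun z => Iff.rfl)
      ((g.fiberι s).resLE W W' inf_le_left) (Scheme.Hom.resLE_comp_ι _ _) gA (Category.comp_id _)
    haveI : IsAffine W.toScheme := hWaff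
    haveI : IsAffineHom gA := MorphismProperty.of_isPullback hsq (isAffineHom_of_isAffine _)
    exact isAffine_of_isAffineHom gA
  obtain ⟨W₁, hW₁, hyW₁, hW₁W, hs⟩ :=
    exists_open_surjective_of_fibre f g hT.fromSpec hWaff hWρ hWfin hyW (S.residueField s) ev.hom hσ hK
  exact ⟨W₁, hW₁, hyW₁, fun z hz => (hU₁O (hWU₁ (hW₁W hz))).1, hs⟩

/-- Surjectivity of `O_Y → f_* O_X` near a fibre where it holds. -/
theorem exists_surjective_open (f : X ⟶ Y) (g : Y ⟶ S) [IsProper f]
    [LocallyOfFinitePresentation (f ≫ g)] (s : S) (O : Y.Opens) (hsO : g ⁻¹' {s} ⊆ (O : Set Y))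
    (hgood : ∀ y ∈ O, Good f y) (hflat : Flat ((f ⁻¹ᵁ O).ι ≫ f ≫ g))
    (hsurj : ∀ U : (g.fiber s).Opens, IsAffineOpen U →
      Function.Surjective ((MoreMor.fiberMap f g s).app U)) :
    ∃ V : Y.Opens, g ⁻¹' {s} ⊆ (V : Set Y) ∧ V ≤ O ∧
      ∀ U : Y.Opens, U ≤ V → IsAffineOpen U → Function.Surjective (f.app U) := by
  have key := fun y : {y : Y // g y = s} =>
    exists_surjective_nhd f g s O hgood hflat hsurj y.1 (hsO y.2) y.2
  choose U hUa hyU hUO hUs using key
  refine ⟨⨆ y, U y, fun y hy => Opens.mem_iSup.2 ⟨⟨y, hy⟩, hyU ⟨y, hy⟩⟩, iSup_le hUO,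
    fun W hW hWa => Limits.FibreVanishing.app_surjective_of_local f hWa fun z hz => ?_⟩
  obtain ⟨i, hi⟩ := Opens.mem_iSup.1 (hW hz)
  obtain ⟨r, r', hrr', hzr⟩ := exists_basicOpen_le_affine_inter hWa (hUa i) z ⟨hz, hi⟩
  refine ⟨r, hzr, ?_⟩
  rw [hrr']
  refine app_basicOpen_surjective f (hUa i) r' fun m => ?_
  obtain ⟨b, rfl⟩ := hUs i m
  exact ⟨r' * b, map_mul _ _ _⟩

end Groth.Contraction
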